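import Cfsg.Agent.Lib.CrossDegrees.Basic
import Cfsg.Agent.Lib.CrossDegrees.Normalizer
import Cfsg.Agent.Lib.Coprime.SchurZassenhaus
import Cfsg.Agent.Lib.Solvable.MinNormal
import Cfsg.Agent.Lib.Characters.BrauerPerm
import Mathlib.GroupTheory.FiniteAbelian.Duality
import Mathlib.RingTheory.RootsOfUnity.AlgebraicallyClosed
import Mathlib.Analysis.Complex.Polynomial.Basic

/-!
# Real characters of degree prime to `p`: normal Sylow subgroup over the odd residual
-/

set_option autoImplicit false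
set_option linter.style.haveILetI false
set_option linter.unusedSectionVars false
set_option linter.unusedFintypeInType false

namespace CfsgLib.RealDegrees

open Cfsg
open CfsgLib.Characters
open CfsgLib.CharCorr (mult mult_spec irr_one_eq_charDegree)
open CfsgLib.CrossDegrees (cj mem_cj mem_cj_conj card_cj cj_le)
open scoped ComplexConjugate commutatorElement

universe u
variable {G : Type u} [Group G] [Finite G]

/-- Complements of an abelian normal subgroup in a normal subgroup are conjugate. -/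
theorem exists_mul_mem_normalizer (V R W : Subgroup G) [V.Normal] [W.Normal] (hVW : V ≤ W)
    (hRW : R ≤ W) (hab : ∀ a ∈ V, ∀ b ∈ V, a * b = b * a)
    (hcard : Nat.card W = Nat.card V * Nat.card R) (hcop : (Nat.card V).Coprime (Nat.card R))
    (g : G) : ∃ v ∈ V, v * g ∈ Subgroup.normalizer (R : Set G) := by
  classical
  let V' : Subgroup W := V.subgroupOf W
  haveI : V'.Normal := (inferInstance : V.Normal).subgroupOf W
  have hV'card : Nat.card V' = Nat.card V := CfsgLib.Coprime.card_subgroupOf hVW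
  have hV'idx : V'.index = Nat.card R := by
    have h1 := V'.card_mul_index
    rw [hV'card, hcard] at h1
    exact mul_left_cancel₀ Nat.card_pos.ne' h1
  have hle : cj g R ≤ W := cj_le fun x hx => (inferInstance : W.Normal).conj_mem x (hRW hx) g
  have hsol : Group.IsSolvable V' :=
    Group.isSolvable_of_comm fun a b => Subtype.ext (Subtype.ext (hab _ a.2 _ b.2))
  obtain ⟨x, hx, he⟩ := CfsgLib.Coprime.conj_complement _ le_rfl V'
    (by rw [hV'card, hV'idx]; exact hcop) ((cj g R).subgroupOf W) (R.subgroupOf W)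
    (by rw [CfsgLib.Coprime.card_subgroupOf hle, card_cj, hV'idx])
    (by rw [CfsgLib.Coprime.card_subgroupOf hRW, hV'idx]) (Or.inl hsol)
  refine ⟨x, hx, CfsgLib.Coprime.mem_normalizer_of_forall_conj fun r hr => ?_⟩
  have hgr : g * r * g⁻¹ ∈ W := (inferInstance : W.Normal).conj_mem r (hRW hr) g
  have h1 : (⟨g * r * g⁻¹, hgr⟩ : W) ∈ (cj g R).subgroupOf W := mem_cj_conj hr
  have h2 : x * ⟨g * r * g⁻¹, hgr⟩ * x⁻¹ ∈ R.subgroupOf W := by
    rw [← he, CfsgLib.Coprime.mem_conj_smul]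
    simpa [mul_assoc] using h1
  rw [Subgroup.mem_subgroupOf] at h2
  simpa [mul_assoc] using h2

/-- An inverted linear character of a complemented abelian normal subgroup has a stabilizer of
`p'`-index when the real characters have `p'`-degree. -/
theorem not_dvd_index_stabilizer {p : ℕ} (hp : p.Prime)
    (hreal : ∀ χ : IrrCharacter G, (∀ g, ((χ : G → ℂ) g).im = 0) → ¬ p ∣ charDegree (χ : G → ℂ))
    (V : Subgroup G) [hVn : V.Normal] (σ : G →* G) (hσV : ∀ v ∈ V, σ v = 1)
    (hσ : ∀ g, g * (σ g)⁻¹ ∈ V) (hab : ∀ a ∈ V, ∀ b ∈ V, a * b = b * a) (f : V →* ℂˣ) (h : G)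
    (hinv : ∀ v : V, f ⟨h * v * h⁻¹, hVn.conj_mem (v : G) v.2 h⟩ = (f v)⁻¹) :
    ∃ T : Subgroup G, V ≤ T ∧ ¬ p ∣ T.index ∧
      ∀ t ∈ T, ∀ v : V, f ⟨t * v * t⁻¹, hVn.conj_mem (v : G) v.2 t⟩ = f v := by
  classical
  haveI := Fintype.ofFinite G
  haveI := Fintype.ofFinite V
  let φ : IrrCharacter V := ⟨fun v => (f v : ℂ), isIrrCharacter_of_hom f⟩
  set T := CfsgLib.Clifford.inertia hVn (φ : V → ℂ) with hTdef
  have hT : ∀ t, t ∈ T ↔ ∀ v : V, f ⟨t * v * t⁻¹, hVn.conj_mem (v : G) v.2 t⟩ = f v := fun t =>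
    CfsgLib.Clifford.mem_inertia.trans
      ⟨fun h v => Units.ext (h v), fun h v => congrArg Units.val (h v)⟩
  have hVT : V ≤ T := CfsgLib.Clifford.le_inertia hVn (irr_isClassFunction φ)
  haveI := Fintype.ofFinite T
  have hfconj : ∀ (a b : G) (v : V),
      f ⟨a * b * v * (a * b)⁻¹, hVn.conj_mem (v : G) v.2 _⟩ =
        f ⟨a * ((⟨b * v * b⁻¹, hVn.conj_mem (v : G) v.2 b⟩ : V) : G) * a⁻¹,
          hVn.conj_mem _ (hVn.conj_mem (v : G) v.2 b) a⟩ := fun a b v =>
    congrArg f (Subtype.ext (by group))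
  have hσσ : ∀ t : T, σ t ∈ T := fun t => by
    rw [show σ t = ((t : G) * (σ t)⁻¹)⁻¹ * t by group]
    exact T.mul_mem (T.inv_mem (hVT (hσ t))) t.2
  let μ : T →* ℂˣ :=
    { toFun := fun t => f ⟨(t : G) * (σ t)⁻¹, hσ t⟩
      map_one' := by
        rw [← map_one f]
        exact congrArg f (Subtype.ext (by simp))
      map_mul' := fun a b => by
        rw [← (hT _).1 (hσσ a) ⟨(b : G) * (σ b)⁻¹, hσ b⟩, ← map_mul]
        refine congrArg f (Subtype.ext ?_)
        simp only [Subgroup.coe_mul, map_mul, mul_inv_rev]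
        group }
  have hμV : ∀ (v : V), μ ⟨v, hVT v.2⟩ = f v := fun v => congrArg f (Subtype.ext (by
    change (v : G) * (σ v)⁻¹ = v
    rw [hσV v v.2, inv_one, mul_one]))
  let ψ : IrrCharacter T := ⟨fun t => (μ t : ℂ), isIrrCharacter_of_hom μ⟩
  let i : V →* T := Subgroup.inclusion hVT
  have hψφ : mult i ψ φ = 1 := CfsgLib.CharCorr.mult_eq_of_classInner_eq _ _ _ (by
    rw [show ((ψ : T → ℂ) ∘ i) = (φ : V → ℂ) from funext fun v => congrArg Units.val (hμV v),
      classInner_irr_self φ.2, Nat.cast_one])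
  have hover : ∀ χ : IrrCharacter G, mult T.subtype χ ψ ≠ 0 →
      T.index ≤ charDegree (χ : G → ℂ) := by
    intro χ hχ
    have h2 := CfsgLib.CharCorrQ.mult_mul_le_comp T.subtype i χ ψ φ
    rw [hψφ, mul_one] at h2
    have hne : mult V.subtype χ φ ≠ 0 := fun h0 => hχ (Nat.le_zero.1 (h0 ▸ h2))
    have hs : classInner (fun n : V => (χ : G → ℂ) n) (φ : V → ℂ) = (mult V.subtype χ φ : ℂ) :=
      mult_spec V.subtype χ φ
    have h3 := CfsgLib.Clifford.clifford_degree hVn χ.2 φ.2 (by rw [hs]; exact_mod_cast hne)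
    rw [hs, irr_one_eq_charDegree, ← hTdef,
      show (φ : V → ℂ) 1 = 1 by simp [φ], mul_one] at h3
    rw [show charDegree (χ : G → ℂ) = mult V.subtype χ φ * T.index by exact_mod_cast h3]
    exact Nat.le_mul_of_pos_left _ (Nat.pos_of_ne_zero hne)
  have hF : IsCharacter G (indFun T (ψ : T → ℂ)) :=
    CfsgLib.Induction.isCharacter_indFun T (irr_isCharacter ψ)
  have h1 := congrFun (classFunction_eq_sum (isClassFunction_of_isCharacter hF)) 1
  rw [CfsgLib.Induction.indFun_one_apply, Finset.sum_apply] at h1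
  have hc : ∀ χ : IrrCharacter G,
      classInner (indFun T (ψ : T → ℂ)) (χ : G → ℂ) = (mult T.subtype χ ψ : ℂ) := by
    intro χ
    rw [CfsgLib.Induction.classInner_indFun T _ (irr_isClassFunction χ),
      CfsgLib.Induction.classInner_swap]
    rw [show classInner (fun h : T => (χ : G → ℂ) h) (ψ : T → ℂ) = (mult T.subtype χ ψ : ℂ) from
      mult_spec T.subtype χ ψ, Complex.conj_natCast]
  simp only [Pi.smul_apply, smul_eq_mul, hc, irr_one_eq_charDegree] at h1
  have hψd : charDegree (ψ : T → ℂ) = 1 := by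
    have h2 := irr_one_eq_charDegree ψ
    rw [show (ψ : T → ℂ) 1 = 1 by simp [ψ]] at h2
    exact_mod_cast h2.symm
  rw [hψd, Nat.cast_one, mul_one] at h1
  have hsum : T.index = ∑ χ : IrrCharacter G, mult T.subtype χ ψ * charDegree (χ : G → ℂ) := by
    exact_mod_cast h1
  have hidx : 0 < T.index := Nat.pos_of_ne_zero Subgroup.index_ne_zero_of_finite
  obtain ⟨χ, hχ⟩ : ∃ χ : IrrCharacter G, mult T.subtype χ ψ ≠ 0 := by
    by_contra hcon
    push Not at hcon
    rw [Finset.sum_eq_zero (fun χ _ => by rw [hcon χ, zero_mul])] at hsum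
    omega
  have huniq : ∀ χ' : IrrCharacter G, mult T.subtype χ' ψ ≠ 0 → χ' = χ := by
    intro χ' hχ'
    by_contra hne
    have h2 := Finset.sum_le_sum_of_subset
      (f := fun ω => mult T.subtype ω ψ * charDegree (ω : G → ℂ)) (Finset.subset_univ {χ', χ})
    rw [← hsum, Finset.sum_pair hne] at h2
    have h3 := hover χ' hχ'
    have h4 := hover χ hχ
    have h5 : charDegree (χ' : G → ℂ) ≤ mult T.subtype χ' ψ * charDegree (χ' : G → ℂ) :=
      Nat.le_mul_of_pos_left _ (Nat.pos_of_ne_zero hχ')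
    have h6 : charDegree (χ : G → ℂ) ≤ mult T.subtype χ ψ * charDegree (χ : G → ℂ) :=
      Nat.le_mul_of_pos_left _ (Nat.pos_of_ne_zero hχ)
    omega
  rw [Finset.sum_eq_single χ (fun ω _ hne => ?_) (fun hh => absurd (Finset.mem_univ _) hh)] at hsum
  swap
  · by_cases h0 : mult T.subtype ω ψ = 0
    · rw [h0, zero_mul]
    · exact absurd (huniq ω h0) hne
  have hdeg : charDegree (χ : G → ℂ) = T.index := by
    refine le_antisymm ?_ (hover χ hχ)
    rw [hsum]
    exact Nat.le_mul_of_pos_left _ (Nat.pos_of_ne_zero hχ)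
  -- conjugation by `h` normalises the stabilizer and inverts the extension
  have hTh : ∀ t ∈ T, h * t * h⁻¹ ∈ T := by
    intro t ht
    rw [hT]
    intro v
    have e : (⟨h * t * h⁻¹ * v * (h * t * h⁻¹)⁻¹, hVn.conj_mem (v : G) v.2 _⟩ : V) =
        ⟨h * ((⟨t * (h⁻¹ * v * h) * t⁻¹, hVn.conj_mem _ (by simpa using hVn.conj_mem (v : G) v.2 h⁻¹) t⟩ : V) : G) * h⁻¹,
          hVn.conj_mem _ (hVn.conj_mem _ (by simpa using hVn.conj_mem (v : G) v.2 h⁻¹) t) h⟩ :=
      Subtype.ext (by group)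
    have hv' : h⁻¹ * (v : G) * h ∈ V := by simpa using hVn.conj_mem (v : G) v.2 h⁻¹
    rw [e, hinv, (hT t).1 ht ⟨_, hv'⟩, ← hinv ⟨_, hv'⟩]
    exact congrArg f (Subtype.ext (by group))
  let eT : T ≃* T :=
    { toFun := fun t => ⟨h * t * h⁻¹, hTh t t.2⟩
      invFun := fun t => ⟨h⁻¹ * t * h, by
        have hs : cj h T = T := Subgroup.eq_of_le_of_card_ge (cj_le hTh) (card_cj h T).symm.le
        have h2 : (t : G) ∈ cj h T := hs.symm ▸ t.2
        exact mem_cj.1 h2⟩
      left_inv := fun t => Subtype.ext (by group)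
      right_inv := fun t => Subtype.ext (by group)
      map_mul' := fun a b => Subtype.ext (by simp [mul_assoc]) }
  have hμh : ∀ t : T, μ (eT t) = (μ t)⁻¹ := by
    intro t
    change f ⟨h * t * h⁻¹ * (σ (h * t * h⁻¹))⁻¹, hσ _⟩ = (f ⟨(t : G) * (σ t)⁻¹, hσ t⟩)⁻¹
    set a := (h : G) * (σ h)⁻¹ with ha
    have hw : h * ((t : G) * (σ t)⁻¹) * h⁻¹ ∈ V := hVn.conj_mem _ (hσ t) h
    have hz : h * σ t * h⁻¹ * (σ h * σ t * (σ h)⁻¹)⁻¹ ∈ V := by
      have e : h * σ t * h⁻¹ * (σ h * σ t * (σ h)⁻¹)⁻¹ =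
          a * ((σ h * σ t * (σ h)⁻¹) * a⁻¹ * (σ h * σ t * (σ h)⁻¹)⁻¹) := by
        rw [ha]; group
      rw [e]
      exact V.mul_mem (hσ h) (hVn.conj_mem _ (V.inv_mem (hσ h)) _)
    have e2 : (⟨h * t * h⁻¹ * (σ (h * t * h⁻¹))⁻¹, hσ _⟩ : V) = ⟨_, hw⟩ * ⟨_, hz⟩ :=
      Subtype.ext (by
        simp only [Subgroup.coe_mul, map_mul, map_inv]
        group)
    rw [e2, map_mul, show f ⟨_, hw⟩ = (f ⟨(t : G) * (σ t)⁻¹, hσ t⟩)⁻¹ from hinv ⟨_, hσ t⟩,
      show f ⟨_, hz⟩ = 1 from ?_, mul_one]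
    have hsh : σ h * σ t * (σ h)⁻¹ ∈ T := by
      have := hσσ ⟨_, hTh t t.2⟩
      simpa using this
    have e3 : (⟨_, hz⟩ : V) = ⟨a, hσ h⟩ *
        ⟨(σ h * σ t * (σ h)⁻¹) * ((⟨a, hσ h⟩⁻¹ : V) : G) * (σ h * σ t * (σ h)⁻¹)⁻¹,
          hVn.conj_mem _ (⟨a, hσ h⟩⁻¹ : V).2 _⟩ := Subtype.ext (by
        simp only [Subgroup.coe_mul, InvMemClass.coe_inv, ha]
        group)
    rw [e3, map_mul, (hT _).1 hsh, map_inv, mul_inv_cancel]
  have hnorm : ∀ t : T, conj ((μ t : ℂ)) = ((μ t)⁻¹ : ℂˣ) := by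
    intro t
    have hd := irr_apply_inv ψ t
    rw [show (ψ : T → ℂ) t⁻¹ = ((μ t)⁻¹ : ℂˣ) by simp [ψ]] at hd
    exact hd.symm
  -- the constituent is real
  let χc : IrrCharacter G := CfsgLib.BrauerPerm.conjIrr χ
  have hχc : mult T.subtype χc ψ ≠ 0 := by
    intro h0
    have h2 : classInner (fun t : T => (χc : G → ℂ) t) (ψ : T → ℂ) = 0 := by
      rw [show classInner (fun t : T => (χc : G → ℂ) t) (ψ : T → ℂ) = (mult T.subtype χc ψ : ℂ) from
        mult_spec T.subtype χc ψ, h0, Nat.cast_zero]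
    have h3 : classInner (fun t : T => (χ : G → ℂ) t) (ψ : T → ℂ) = 0 := by
      rw [← h2]
      simp only [classInner]
      congr 1
      rw [← Equiv.sum_comp eT.toEquiv fun t : T => (χc : G → ℂ) t * conj ((ψ : T → ℂ) t)]
      have h4 : ∀ t : T, (χc : G → ℂ) (eT t : G) * conj ((ψ : T → ℂ) (eT t)) =
          conj ((χ : G → ℂ) t * conj ((ψ : T → ℂ) t)) := by
        intro t
        rw [map_mul, Complex.conj_conj, CfsgLib.BrauerPerm.conjIrr_apply]
        congr 1
        · exact congrArg conj (classFunction_eq_of_isConj (irr_isClassFunction χ)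
            (isConj_iff.2 ⟨h⁻¹, by simp [eT, mul_assoc]⟩))
        · change conj ((μ (eT t) : ℂ)) = (μ t : ℂ)
          rw [hμh, ← hnorm, Complex.conj_conj]
      have h6 : classInner (fun t : T => (χ : G → ℂ) t) (ψ : T → ℂ) = (mult T.subtype χ ψ : ℂ) :=
        mult_spec T.subtype χ ψ
      simp only [classInner] at h6
      have hreal' : conj (∑ t : T, (χ : G → ℂ) t * conj ((ψ : T → ℂ) t)) =
          ∑ t : T, (χ : G → ℂ) t * conj ((ψ : T → ℂ) t) := by
        rw [inv_mul_eq_iff_eq_mul₀ (Nat.cast_ne_zero.mpr Nat.card_pos.ne')] at h6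
        rw [h6, map_mul, Complex.conj_natCast, Complex.conj_natCast]
      rw [← hreal', map_sum]
      exact Finset.sum_congr rfl fun t _ => (h4 t).symm
    rw [show classInner (fun t : T => (χ : G → ℂ) t) (ψ : T → ℂ) = (mult T.subtype χ ψ : ℂ) from
      mult_spec T.subtype χ ψ, Nat.cast_eq_zero] at h3
    exact hχ h3
  have hχr : ∀ g, ((χ : G → ℂ) g).im = 0 :=
    (CfsgLib.BrauerPerm.conjIrr_eq_self_iff χ).1 (huniq χc hχc)
  exact ⟨T, hVT, hdeg ▸ hreal χ hχr, fun t ht => (hT t).1 ht⟩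

/-- Real characters of `p'`-degree force a normal Sylow `p`-subgroup over the odd residual. -/
theorem normal_sylow {p : ℕ} [hp : Fact p.Prime] (n : ℕ) : ∀ {G : Type u} [Group G] [Finite G],
    Nat.card G ≤ n →
    (∀ χ : IrrCharacter G, (∀ g, ((χ : G → ℂ) g).im = 0) → ¬ p ∣ charDegree (χ : G → ℂ)) →
    ∀ (L : Subgroup G), L.Normal → Group.IsSolvable L → ¬ p ∣ L.index →
    ∀ (K : Subgroup G), K.Normal →
    (∀ T : Subgroup G, (∀ x ∈ K, (∃ k, orderOf x = 2 ^ k) → x ∈ T) → K ≤ T) →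
    ∀ (U : Subgroup G), U.Normal → K ≤ U → (∃ a, K.relIndex U = p ^ a) →
    ∀ (P : Sylow p G), ((P : Subgroup G) ⊓ U).Normal := by
  induction n with
  | zero =>
    intro G _ _ hcard
    exact absurd hcard (Nat.not_le.2 Nat.card_pos)
  | succ n ih =>
  intro G _ _ hcard hreal L hLn hLs hLp K hKn hKgen U hUn hKU hUp P
  classical
  haveI := hLn
  haveI := hKn
  haveI := hUn
  set PU := (P : Subgroup G) ⊓ U with hPU
  by_cases hbot : PU = ⊥
  · rw [hbot]; infer_instance
  have hPL : (P : Subgroup G) ≤ L :=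
    CfsgLib.CrossDegrees.le_of_isPGroup_of_not_dvd_index P.isPGroup' hLp
  have hLU : L ⊓ U ≠ ⊥ := fun h0 => hbot (le_bot_iff.1 (h0 ▸ inf_le_inf_right U hPL))
  obtain ⟨V, hVmin, hVle⟩ := CfsgLib.MinNormal.exists_isMinNormal_le inferInstance hLU
  haveI hVn : V.Normal := hVmin.1
  haveI : Group.IsSolvable V := by
    haveI := hLs
    exact Group.isSolvable_of_isSolvable_injective
      (Subgroup.inclusion_injective (hVle.trans inf_le_left))
  haveI : Nontrivial V := (Subgroup.nontrivial_iff_ne_bot V).2 hVmin.2.1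
  have hVab : IsMulCommutative V := by
    have hne : commutator V ≠ ⊤ := (Group.IsSolvable.commutator_lt_top_of_nontrivial _).ne
    rcases hVmin.2.2 ((commutator V).map V.subtype) inferInstance (Subgroup.map_subtype_le _) with
      h | h
    · refine isMulCommutative_iff.2 fun a b => commutatorElement_eq_one_iff_commute.1 ?_
      have hm : ⁅a, b⁆ ∈ commutator V :=
        Subgroup.commutator_mem_commutator (Subgroup.mem_top a) (Subgroup.mem_top b)
      rwa [(Subgroup.map_eq_bot_iff_of_injective _ V.subtype_injective).1 h, Subgroup.mem_bot] at hm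
    · exact absurd (Subgroup.map_injective V.subtype_injective
        (h.trans (MonoidHom.range_eq_map V.subtype ▸ V.range_subtype.symm))) hne
  obtain ⟨q, hq, hVel, hVq, kV, hkV0, hkV⟩ := hVmin.exists_prime_elementaryAbelian hVab
  haveI := Fact.mk hq
  have hab : ∀ a ∈ V, ∀ b ∈ V, a * b = b * a := fun a ha b hb =>
    congrArg Subtype.val (isMulCommutative_iff.1 hVab ⟨a, ha⟩ ⟨b, hb⟩)
  have hVU : V ≤ U := hVle.trans inf_le_right
  -- the quotient
  set π := QuotientGroup.mk' V with hπ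
  have hsurj : Function.Surjective π := QuotientGroup.mk'_surjective V
  have hlt : Nat.card (G ⧸ V) ≤ n := by
    have h1 := V.card_eq_card_quotient_mul_card_subgroup
    have h2 : 1 < Nat.card V := V.one_lt_card_iff_ne_bot.2 hVmin.2.1
    have h3 : 0 < Nat.card (G ⧸ V) := Nat.card_pos
    nlinarith
  have hWn : (PU ⊔ V).Normal := by
    have h := ih hlt (fun χ hχ => by
        let χ' : IrrCharacter G := ⟨_, CfsgLib.Clifford.isIrrCharacter_pullback χ.2 π hsurj⟩
        have e : charDegree (χ' : G → ℂ) = charDegree (χ : G ⧸ V → ℂ) := by simp [charDegree, χ']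
        exact e ▸ hreal χ' fun g => hχ _)
      (L.map π) (hLn.map π hsurj)
      (Group.isSolvable_of_surjective (π.subgroupMap_surjective L))
      (fun hd => hLp (hd.trans (Subgroup.index_map_dvd _ hsurj)))
      (K.map π) (hKn.map π hsurj)
      (fun T hT => by
        rw [Subgroup.map_le_iff_le_comap]
        refine hKgen _ fun x hx ⟨k, hk⟩ => ?_
        obtain ⟨j, -, hj⟩ := (Nat.dvd_prime_pow Nat.prime_two).1 (hk ▸ orderOf_map_dvd π x)
        exact hT _ (Subgroup.mem_map_of_mem π hx) ⟨j, hj⟩)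
      (U.map π) (hUn.map π hsurj) (Subgroup.map_mono hKU)
      (by
        obtain ⟨a, ha⟩ := hUp
        have h1 : (K.map π).relIndex (U.map π) ∣ p ^ a :=
          ha ▸ (by rw [← Subgroup.relIndex_comap]; exact Subgroup.relIndex_dvd_of_le_left U (Subgroup.le_comap_map π K))
        obtain ⟨b, -, hb⟩ := (Nat.dvd_prime_pow hp.out).1 h1
        exact ⟨b, hb⟩)
      (P.mapSurjective hsurj)
    have e : ((P.mapSurjective hsurj : Sylow p (G ⧸ V)) : Subgroup (G ⧸ V)) ⊓ U.map π =
        PU.map π := by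
      rw [Sylow.coe_mapSurjective]
      refine le_antisymm ?_ (Subgroup.map_inf_le _ _ _)
      rintro _ ⟨⟨a, ha, rfl⟩, b, hb, hab'⟩
      refine ⟨a, ⟨ha, ?_⟩, rfl⟩
      have h2 : b⁻¹ * a ∈ V := QuotientGroup.eq.1 hab'
      have := U.mul_mem hb (hVU h2)
      rwa [mul_inv_cancel_left] at this
    rw [e] at h
    have h3 := h.comap π
    rwa [Subgroup.comap_map_eq, QuotientGroup.ker_mk'] at h3
  haveI := hWn
  by_cases hqp : q = p
  · subst hqp
    have hVP : V ≤ PU := le_inf (by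
      have h1 : IsPGroup q ↥((P : Subgroup G) ⊔ V) :=
        P.isPGroup'.to_sup_of_normal_right hVq
      exact le_sup_right.trans (P.is_maximal' h1 le_sup_left).le) hVU
    rwa [sup_eq_left.2 hVP] at hWn
  have hPUp : IsPGroup p PU := P.isPGroup'.to_le inf_le_left
  obtain ⟨a₀, ha₀⟩ := IsPGroup.iff_card.1 hPUp
  have hcop : (Nat.card V).Coprime (Nat.card PU) := by
    rw [hkV, ha₀]; exact ((Nat.coprime_primes hq hp.out).2 hqp).pow kV a₀
  have hPUnV : PU ≤ Subgroup.normalizer (V : Set G) := by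
    rw [Subgroup.normalizer_eq_top]; exact le_top
  have hWcard : Nat.card ↥(PU ⊔ V) = Nat.card V * Nat.card PU := by
    rw [CfsgLib.Coprime.card_sup_of_disjoint hPUnV (Subgroup.inf_eq_bot_of_coprime hcop), mul_comm]
  set X := Subgroup.normalizer (PU : Set G) with hX
  have hGX : ∀ g : G, ∃ v ∈ V, v * g ∈ X :=
    exists_mul_mem_normalizer V PU (PU ⊔ V) le_sup_right le_sup_left hab hWcard hcop
  have hXP : ∀ h ∈ X, ∀ r ∈ PU, h * r * h⁻¹ ∈ PU := fun h hh r hr =>
    (Subgroup.mem_normalizer_iff.1 hh r).1 hr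
  have hVPU : ∀ x ∈ V, x ∈ PU → x = 1 := fun x h1 h2 => by
    have h3 : x ∈ V ⊓ PU := ⟨h1, h2⟩
    rwa [Subgroup.inf_eq_bot_of_coprime hcop, Subgroup.mem_bot] at h3
  have hCn : (V ⊓ Subgroup.centralizer (PU : Set G)).Normal := ⟨fun m hm g => by
    obtain ⟨v, hv, hh⟩ := hGX g
    have h1 : v * g * m * (v * g)⁻¹ ∈ V := hVn.conj_mem m hm.1 _
    have h2 : v * g * m * (v * g)⁻¹ ∈ Subgroup.centralizer (PU : Set G) :=
      Subgroup.mem_centralizer_iff.2 fun r hr => by
        have h3 := Subgroup.mem_centralizer_iff.1 hm.2 _ (hXP _ (X.inv_mem hh) r hr)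
        rw [inv_inv] at h3
        calc r * (v * g * m * (v * g)⁻¹)
            = v * g * (((v * g)⁻¹ * r * (v * g)) * m) * (v * g)⁻¹ := by group
          _ = v * g * (m * ((v * g)⁻¹ * r * (v * g))) * (v * g)⁻¹ := by rw [h3]
          _ = _ := by group
    have e : g * m * g⁻¹ = v * g * m * (v * g)⁻¹ := by
      have h4 := hab v⁻¹ (V.inv_mem hv) _ h1
      calc g * m * g⁻¹ = v⁻¹ * (v * g * m * (v * g)⁻¹) * v := by group
        _ = (v * g * m * (v * g)⁻¹) * v⁻¹ * v := by rw [h4]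
        _ = _ := by group
    rw [e]
    exact ⟨h1, h2⟩⟩
  rcases hVmin.2.2 _ hCn inf_le_left with hW | hW
  swap
  · -- `V` centralizes `PU`
    refine ⟨fun r hr g => ?_⟩
    obtain ⟨v, hv, hh⟩ := hGX g
    have h1 := hXP _ hh r hr
    have h4 := Subgroup.mem_centralizer_iff.1
      (hW.symm ▸ V.inv_mem hv : v⁻¹ ∈ V ⊓ Subgroup.centralizer (PU : Set G)).2 _ h1
    have e : g * r * g⁻¹ = v * g * r * (v * g)⁻¹ :=
      calc g * r * g⁻¹ = v⁻¹ * (v * g * r * (v * g)⁻¹) * v := by group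
        _ = (v * g * r * (v * g)⁻¹) * v⁻¹ * v := by rw [h4]
        _ = _ := by group
    rw [e]
    exact h1
  exfalso
  have hVX : ∀ v ∈ V, v ∈ X → v = 1 := fun v hv hvX =>
    Subgroup.mem_bot.1 (hW ▸ ⟨hv, Subgroup.mem_centralizer_iff.2 fun r hr => by
      have h1 : v * r * v⁻¹ * r⁻¹ ∈ V := by
        rw [show v * r * v⁻¹ * r⁻¹ = v * (r * v⁻¹ * r⁻¹) by group]
        exact V.mul_mem hv (hVn.conj_mem _ (V.inv_mem hv) r)
      exact (mul_inv_eq_iff_eq_mul.1
        (mul_inv_eq_one.1 (hVPU _ h1 (PU.mul_mem (hXP v hvX r hr) (PU.inv_mem hr))))).symm⟩)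
  let ρ : X →* G ⧸ V := π.comp X.subtype
  have hρ : Function.Bijective ρ := by
    constructor
    · rw [injective_iff_map_eq_one]
      exact fun x hx => Subtype.ext (hVX x ((QuotientGroup.eq_one_iff (x : G)).1 hx) x.2)
    · intro a
      obtain ⟨g, rfl⟩ := hsurj a
      obtain ⟨v, hv, hh⟩ := hGX g
      refine ⟨⟨v * g, hh⟩, ?_⟩
      change π (v * g) = π g
      rw [map_mul, show π v = 1 from (QuotientGroup.eq_one_iff v).2 hv, one_mul]
  let e := MulEquiv.ofBijective ρ hρ
  let σ : G →* G := (X.subtype.comp e.symm.toMonoidHom).comp π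
  have hσV : ∀ v ∈ V, σ v = 1 := fun v hv => by
    change ((e.symm (π v) : X) : G) = 1
    rw [show π v = 1 from (QuotientGroup.eq_one_iff v).2 hv, map_one, Subgroup.coe_one]
  have hσπ : ∀ g, π (σ g) = π g := fun g => e.apply_symm_apply (π g)
  have hσ : ∀ g, g * (σ g)⁻¹ ∈ V := fun g => (QuotientGroup.eq_one_iff _).1 (by
    change π (g * (σ g)⁻¹) = 1
    rw [map_mul, map_inv, hσπ, mul_inv_cancel])
  letI : CommGroup V :=
    { (inferInstance : Group V) with mul_comm := fun a b => Subtype.ext (hab a a.2 b b.2) }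
  haveI : NeZero ((Monoid.exponent V : ℕ) : ℂ) :=
    ⟨Nat.cast_ne_zero.2 Monoid.exponent_ne_zero_of_finite⟩
  haveI := Fintype.ofFinite PU
  have hexp : ∀ (f : V →* ℂˣ) (v : V), f v ^ q = 1 := fun f v => by
    rw [← map_pow, show v ^ q = 1 from Subtype.ext (by simpa using hVel.2 v v.2), map_one]
  -- inverted linear characters are trivial
  have key : ∀ (f : V →* ℂˣ) (g : G),
      (∀ v : V, f ⟨g * v * g⁻¹, hVn.conj_mem (v : G) v.2 g⟩ = (f v)⁻¹) → f = 1 := by
    intro f g hg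
    obtain ⟨T, hVT, hTp, hTf⟩ :=
      not_dvd_index_stabilizer hp.out hreal V σ hσV hσ hab f g hg
    obtain ⟨S⟩ : Nonempty (Sylow p T) := inferInstance
    obtain ⟨P', hP'⟩ := (S.isPGroup'.map T.subtype).exists_le_sylow
    have hScard : Nat.card ((S : Subgroup T).map T.subtype) = Nat.card (P' : Subgroup G) := by
      rw [Subgroup.card_map_of_injective T.subtype_injective, S.card_eq_multiplicity,
        P'.card_eq_multiplicity, ← T.card_mul_index,
        Nat.factorization_mul Nat.card_pos.ne' Subgroup.index_ne_zero_of_finite,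
        Finsupp.add_apply, Nat.factorization_eq_zero_of_not_dvd hTp, add_zero]
    have hP'T : (P' : Subgroup G) ≤ T :=
      Subgroup.eq_of_le_of_card_ge hP' hScard.symm.le ▸ Subgroup.map_subtype_le _
    obtain ⟨x, rfl⟩ := MulAction.exists_smul_eq G P P'
    obtain ⟨w, hw, hh⟩ := hGX x
    have hPUT : PU ≤ T := by
      intro r hr
      have h1 : (w * x)⁻¹ * r * (w * x) ∈ PU := by
        have h0 := hXP _ (X.inv_mem hh) r hr
        rwa [inv_inv] at h0
      have h2 : x * ((w * x)⁻¹ * r * (w * x)) * x⁻¹ ∈ T := hP'T (by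
        rw [Sylow.coe_subgroup_smul, CfsgLib.Coprime.mem_conj_smul]
        simpa [mul_assoc] using (SetLike.mem_coe.1 h1.1))
      have h3 : x * ((w * x)⁻¹ * r * (w * x)) * x⁻¹ = w⁻¹ * r * w := by group
      rw [h3] at h2
      simpa [mul_assoc] using T.mul_mem (T.mul_mem (hVT hw) h2) (T.inv_mem (hVT hw))
    refine MonoidHom.ext fun v => ?_
    let c : PU → V := fun u => ⟨(u : G) * v * (u : G)⁻¹, hVn.conj_mem (v : G) v.2 u⟩
    have hprod : (∏ u : PU, c u : V) = 1 := by
      set z : V := ∏ u : PU, c u with hz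
      refine Subtype.ext (Subgroup.mem_bot.1 (hW ▸
        (⟨z.2, Subgroup.mem_centralizer_iff.2 fun r hr => ?_⟩ :
          (z : G) ∈ V ⊓ Subgroup.centralizer (PU : Set G))))
      let cr : V →* V := (MulAut.conjNormal (H := V) r).toMonoidHom
      have h1 : cr z = z := by
        rw [hz, map_prod]
        exact Fintype.prod_equiv (Equiv.mulLeft (⟨r, hr⟩ : PU)) _ _ fun u => Subtype.ext (by
          simp [cr, c, mul_assoc])
      exact mul_inv_eq_iff_eq_mul.1 (congrArg Subtype.val h1)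
    have h2 : f v ^ Nat.card PU = 1 := by
      have h3 := congrArg f hprod
      rw [map_prod, map_one,
        Finset.prod_congr rfl (fun u _ => (hTf _ (hPUT u.2) v : f (c u) = f v)),
        Finset.prod_const, Finset.card_univ, ← Nat.card_eq_fintype_card] at h3
      exact h3
    rw [ha₀] at h2
    exact orderOf_eq_one_iff.1 (Nat.eq_one_of_dvd_coprimes
      (((Nat.coprime_primes hq hp.out).2 hqp).pow_right a₀)
      (orderOf_dvd_of_pow_eq_one (hexp f v)) (orderOf_dvd_of_pow_eq_one h2))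
  have hsep : (∀ f : V →* ℂˣ, f = 1) → False := fun h => hVmin.2.1
    ((Subgroup.eq_bot_iff_forall _).2 fun v hv => by
      by_contra hne
      obtain ⟨f, hf⟩ := CommGroup.exists_apply_ne_one_of_hasEnoughRootsOfUnity V ℂ
        (a := ⟨v, hv⟩) (fun h1 => hne (congrArg Subtype.val h1))
      exact hf (by rw [h f]; rfl))
  by_cases hq2 : q = 2
  · subst hq2
    refine hsep fun f => key f 1 fun v => ?_
    rw [eq_inv_iff_mul_eq_one, show (⟨1 * (v : G) * 1⁻¹, hVn.conj_mem (v : G) v.2 1⟩ : V) = v from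
      Subtype.ext (by simp), ← sq, hexp f v]
  -- `2`-elements centralize `V`
  have h2cent : ∀ j : ℕ, ∀ g : G, g ^ 2 ^ j = 1 → ∀ v ∈ V, g * v = v * g := by
    intro j
    induction j with
    | zero =>
      intro g hg v _
      rw [pow_zero, pow_one] at hg
      rw [hg, one_mul, mul_one]
    | succ j ihj =>
      intro g hg v hv
      have hg2 := ihj (g ^ 2) (by rw [← pow_mul, ← pow_succ']; exact hg)
      let c : V →* V := (MulAut.conjNormal (H := V) g).toMonoidHom
      have hcc : ∀ w : V, c (c w) = w := fun w => Subtype.ext (by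
        change g * (g * w * g⁻¹) * g⁻¹ = (w : G)
        calc g * (g * w * g⁻¹) * g⁻¹ = g ^ 2 * w * (g ^ 2)⁻¹ := by rw [sq]; group
          _ = w := by rw [hg2 w w.2, mul_inv_cancel_right])
      by_contra hne
      obtain ⟨f, hf⟩ := CommGroup.exists_apply_ne_one_of_hasEnoughRootsOfUnity V ℂ
        (a := (⟨v, hv⟩ : V) / c ⟨v, hv⟩) (fun h1 => hne (by
          have h2 : v = g * v * g⁻¹ := congrArg Subtype.val (div_eq_one.1 h1)
          exact (mul_inv_eq_iff_eq_mul.1 h2.symm)))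
      refine hf ?_
      have h1 := key (f / f.comp c) g fun w => by
        change f (c w) / f (c (c w)) = (f w / f (c w))⁻¹
        rw [hcc, inv_div]
      have h2 := congrArg (fun φ : V →* ℂˣ => φ ⟨v, hv⟩) h1
      simpa using h2
  have hKc : K ≤ Subgroup.centralizer (V : Set G) := hKgen _ fun x _ ⟨k, hk⟩ =>
    Subgroup.mem_centralizer_iff.2 fun v hv => (h2cent k x (hk ▸ pow_orderOf_eq_one x) v hv).symm
  have hVK : V ≤ K := by
    rcases hVmin.2.2 (V ⊓ K) inferInstance inf_le_left with h | h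
    · exfalso
      obtain ⟨a, ha⟩ := hUp
      have h1 : K.relIndex V = Nat.card V := by
        rw [← Subgroup.inf_relIndex_left, h, Subgroup.relIndex_bot_left]
      have h2 : Nat.card V ∣ p ^ a := by
        rw [← ha, ← h1, ← Subgroup.relIndex_sup_left (K := K) (H := V),
          ← Subgroup.relIndex_mul_relIndex K (K ⊔ V) U le_sup_left (sup_le hKU hVU)]
        exact dvd_mul_right _ _
      rw [hkV] at h2
      exact hqp ((Nat.prime_dvd_prime_iff_eq hq hp.out).1
        (hq.dvd_of_dvd_pow ((dvd_pow_self q hkV0.ne').trans h2)))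
    · exact h ▸ inf_le_right
  -- the retraction of `K` onto `V`
  let r : G → G := fun g => g * (σ g)⁻¹
  have hr : ∀ a ∈ K, ∀ b, r (a * b) = r a * r b := by
    intro a ha b
    have hc : a * (b * (σ b)⁻¹) = b * (σ b)⁻¹ * a :=
      (Subgroup.mem_centralizer_iff.1 (hKc ha) _ (hσ b)).symm
    calc a * b * (σ (a * b))⁻¹ = (a * (b * (σ b)⁻¹)) * (σ a)⁻¹ := by rw [map_mul]; group
      _ = (b * (σ b)⁻¹) * (a * (σ a)⁻¹) := by rw [hc]; group
      _ = _ := hab _ (hσ b) _ (hσ a)
  have hr1 : r 1 = 1 := by simp [r]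
  let T₀ : Subgroup G :=
    { carrier := {g | g ∈ K ∧ r g = 1}
      one_mem' := ⟨K.one_mem, hr1⟩
      mul_mem' := fun {a b} ha hb => ⟨K.mul_mem ha.1 hb.1, by rw [hr a ha.1, ha.2, hb.2, one_mul]⟩
      inv_mem' := fun {a} ha => ⟨K.inv_mem ha.1, by
        have := hr a ha.1 a⁻¹
        rw [mul_inv_cancel, hr1, ha.2, one_mul] at this
        exact this.symm⟩ }
  have hKT : K ≤ T₀ := hKgen _ fun x hx ⟨k, hk⟩ => ⟨hx, by
    have hpow : ∀ m : ℕ, r (x ^ m) = r x ^ m := by
      intro m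
      induction m with
      | zero => simp [hr1]
      | succ m ihm => rw [pow_succ', hr x hx, ihm, pow_succ']
    have h1 : r x ^ 2 ^ k = 1 := by rw [← hpow, ← hk, pow_orderOf_eq_one, hr1]
    exact orderOf_eq_one_iff.1 (Nat.eq_one_of_dvd_coprimes
      (((Nat.coprime_primes hq Nat.prime_two).2 hq2).pow_right k)
      (orderOf_dvd_of_pow_eq_one (hVel.2 _ (hσ x))) (orderOf_dvd_of_pow_eq_one h1))⟩
  refine hVmin.2.1 ((Subgroup.eq_bot_iff_forall _).2 fun v hv => ?_)
  have h1 : v * (σ v)⁻¹ = 1 := (hKT (hVK hv)).2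
  rwa [hσV v hv, inv_one, mul_one] at h1

end CfsgLib.RealDegrees

namespace CfsgLib.RealDegrees

universe u
variable {G : Type u} [Group G] [Finite G]

/-- The elements of `p`-power order generate a normal subgroup of index prime to `p`. -/
theorem closure_pElements (p : ℕ) [hp : Fact p.Prime] :
    (Subgroup.closure {g : G | ∃ k : ℕ, orderOf g = p ^ k}).Normal ∧
      ¬ p ∣ (Subgroup.closure {g : G | ∃ k : ℕ, orderOf g = p ^ k}).index := by
  constructor
  · refine ⟨fun n hn g => ?_⟩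
    have h1 := Subgroup.mem_map_of_mem (MulAut.conj g).toMonoidHom hn
    rw [MonoidHom.map_closure] at h1
    refine Subgroup.closure_mono ?_ (by simpa using h1)
    rintro _ ⟨x, ⟨k, hk⟩, rfl⟩
    exact ⟨k, (MulEquiv.orderOf_eq (MulAut.conj g) x).trans hk⟩
  · obtain ⟨P⟩ : Nonempty (Sylow p G) := inferInstance
    refine fun hd => P.not_dvd_index (hd.trans (Subgroup.index_dvd_of_le fun x hx => ?_))
    obtain ⟨k, hk⟩ := IsPGroup.iff_orderOf.1 P.isPGroup' ⟨x, hx⟩
    exact Subgroup.subset_closure ⟨k, by rwa [Subgroup.orderOf_mk] at hk⟩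

/-- The odd residual, with the property used in `normal_sylow`. -/
theorem closure_twoElements_gen (T : Subgroup G)
    (h : ∀ x ∈ Subgroup.closure {g : G | ∃ k : ℕ, orderOf g = 2 ^ k},
      (∃ k, orderOf x = 2 ^ k) → x ∈ T) :
    Subgroup.closure {g : G | ∃ k : ℕ, orderOf g = 2 ^ k} ≤ T :=
  (Subgroup.closure_le T).2 fun x hx => h x (Subgroup.subset_closure hx) hx

/-- Identification of the Sylow subgroup of a normal subgroup. -/
theorem exists_sylow_inf {p : ℕ} [Fact p.Prime] (U : Subgroup G) (Q : Sylow p U) :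
    ∃ P : Sylow p G, (P : Subgroup G) ⊓ U = (Q : Subgroup U).map U.subtype := by
  obtain ⟨P, hP⟩ := (Q.isPGroup'.map U.subtype).exists_le_sylow
  refine ⟨P, le_antisymm ?_ (le_inf hP (Subgroup.map_subtype_le _))⟩
  have h1 : IsPGroup p ↥(((P : Subgroup G) ⊓ U).subgroupOf U) :=
    (P.isPGroup'.to_le inf_le_left).comap_of_injective U.subtype U.subtype_injective
  have h2 : (Q : Subgroup U) ≤ ((P : Subgroup G) ⊓ U).subgroupOf U := fun x hx =>
    ⟨hP (Subgroup.mem_map_of_mem U.subtype hx), x.2⟩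
  rw [← Q.is_maximal' h1 h2, Subgroup.map_subgroupOf_eq_of_le inf_le_right]

end CfsgLib.RealDegrees
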