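import Cfsg.Agent.Lib.RealDegrees.Real
import Cfsg.Agent.Lib.CharCorr.NormalSylow
import Mathlib.GroupTheory.Sylow

/-!
# Real characters of degree prime to `p` and the normalizer of a Sylow subgroup
-/

set_option autoImplicit false
set_option linter.style.haveILetI false
set_option linter.unusedSectionVars false
set_option linter.unusedFintypeInType false

namespace CfsgLib.RealDegrees

open Cfsg
open CfsgLib.Characters
open CfsgLib.CharCorr (mult mult_spec irr_one_eq_charDegree Inv twistIrr restrictAct subgroupAct)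
open CfsgLib.CharCorrQ (SylowSetting)
open CfsgLib.BrauerPerm (conjIrr conjIrr_eq_self_iff)
open CfsgLib.Clifford (inertia mem_inertia conjChar)
open scoped ComplexConjugate

universe u
variable {G : Type u} [Group G] [Finite G]

/-- The index of a subgroup containing a Sylow subgroup is congruent to the index of its
intersection with the normalizer. -/
theorem index_congr {p : ℕ} [Fact p.Prime] (P : Sylow p G) (T : Subgroup G)
    (hPT : (P : Subgroup G) ≤ T) :
    ((T.index : ℕ) : ZMod p) =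
      ((T.subgroupOf (Subgroup.normalizer ((P : Subgroup G) : Set G))).index : ZMod p) := by
  set N := Subgroup.normalizer ((P : Subgroup G) : Set G) with hN
  have h1 : (N.index : ZMod p) = 1 := by
    rw [show N.index = Nat.card (Sylow p G) from P.card_eq_index_normalizer.symm, ← Nat.cast_one,
      ZMod.natCast_eq_natCast_iff]
    exact card_sylow_modEq_one p G
  have h2 : (N.relIndex T : ZMod p) = 1 := by
    have hn : Subgroup.normalizer (((P.subtype hPT : Sylow p T) : Subgroup T) : Set T) =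
        N.subgroupOf T := by
      rw [Sylow.coe_subtype, hN, Subgroup.subgroupOf_normalizer_eq hPT]
    rw [Subgroup.relIndex, show (N.subgroupOf T).index = Nat.card (Sylow p T) by
        rw [← hn]; exact (P.subtype hPT).card_eq_index_normalizer.symm,
      ← Nat.cast_one, ZMod.natCast_eq_natCast_iff]
    exact card_sylow_modEq_one p T
  have h3 : N.relIndex T * T.index = T.relIndex N * N.index := by
    rw [← Subgroup.inf_relIndex_right N T, ← Subgroup.inf_relIndex_right T N,
      Subgroup.relIndex_mul_index inf_le_right, inf_comm,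
      Subgroup.relIndex_mul_index inf_le_right]
  have h4 := congrArg (Nat.cast : ℕ → ZMod p) h3
  rw [Nat.cast_mul, Nat.cast_mul, h1, h2, one_mul, mul_one] at h4
  exact h4

/-- The bijection between real characters of `G` and real characters of `p'`-degree of the
normalizer of a Sylow subgroup. -/
theorem exists_bijection {p : ℕ} [hp : Fact p.Prime] (K : Subgroup G) [hKn : K.Normal]
    (hodd : Odd K.index) (P : Sylow p G) (hQn : ((P : Subgroup G) ⊓ K).Normal)
    (hreal : ∀ χ : IrrCharacter G, (∀ g, ((χ : G → ℂ) g).im = 0) → ¬ p ∣ charDegree (χ : G → ℂ)) :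
    ∃ F : {χ : IrrCharacter G // ∀ g : G, ((χ : G → ℂ) g).im = 0} →
        {ξ : IrrCharacter ↥(Subgroup.normalizer ((P : Subgroup G) : Set G)) //
          (∀ n, ((ξ : ↥(Subgroup.normalizer ((P : Subgroup G) : Set G)) → ℂ) n).im = 0) ∧
            ¬ p ∣ charDegree (ξ : ↥(Subgroup.normalizer ((P : Subgroup G) : Set G)) → ℂ)},
      Function.Bijective F ∧ ∀ χ,
        ((charDegree ((F χ).1 : ↥(Subgroup.normalizer ((P : Subgroup G) : Set G)) → ℂ) : ZMod p) =
            (charDegree (χ.1 : G → ℂ) : ZMod p) ∨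
          (charDegree ((F χ).1 : ↥(Subgroup.normalizer ((P : Subgroup G) : Set G)) → ℂ) : ZMod p) =
            -(charDegree (χ.1 : G → ℂ) : ZMod p)) := by
  classical
  haveI := Fintype.ofFinite G
  set N := Subgroup.normalizer ((P : Subgroup G) : Set G) with hNdef
  have hPN : (P : Subgroup G) ≤ N := Subgroup.le_normalizer
  haveI := Fintype.ofFinite K
  haveI := Fintype.ofFinite N
  let Q : Subgroup K := ((P : Subgroup G) ⊓ K).subgroupOf K
  haveI hQn' : Q.Normal := hQn.subgroupOf K
  let C : Subgroup K := N.subgroupOf K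
  let C' : Subgroup N := K.subgroupOf N
  haveI hC'n : C'.Normal := hKn.subgroupOf N
  haveI := Fintype.ofFinite Q
  haveI := Fintype.ofFinite C
  haveI := Fintype.ofFinite C'
  have hodd' : Odd C'.index := hodd.of_dvd_nat (Subgroup.relIndex_dvd_index_of_normal K N)
  let eC : C' ≃* C :=
    { toFun := fun x => ⟨⟨((x : N) : G), x.2⟩, (x : N).2⟩
      invFun := fun x => ⟨⟨((x : K) : G), x.2⟩, (x : K).2⟩
      left_inv := fun x => rfl
      right_inv := fun x => rfl
      map_mul' := fun x y => rfl }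
  let act : (P : Subgroup G) →* MulAut K :=
    subgroupAct K (P : Subgroup G) fun s _ g hg => hKn.conj_mem g hg s
  have hset : SylowSetting p act Q C :=
    { prime := hp.out
      pgroup := P.isPGroup'
      qgroup := IsPGroup.iff_card.1
        ((P.isPGroup'.to_le inf_le_left).comap_of_injective K.subtype K.subtype_injective)
      coprime := by
        intro hd
        obtain ⟨S⟩ : Nonempty (Sylow p K) := inferInstance
        obtain ⟨P', hP'⟩ := (S.isPGroup'.map K.subtype).exists_le_sylow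
        obtain ⟨g, hg⟩ := MulAction.exists_smul_eq G P P'
        have hle : (S : Subgroup K) ≤ Q := by
          intro x hx
          have h1 : (x : G) ∈ (P' : Subgroup G) := hP' (Subgroup.mem_map_of_mem K.subtype hx)
          rw [← hg, Sylow.coe_subgroup_smul, CfsgLib.Coprime.mem_conj_smul] at h1
          have h2 : g⁻¹ * (x : G) * g ∈ (P : Subgroup G) ⊓ K :=
            ⟨h1, by simpa using hKn.conj_mem (x : G) x.2 g⁻¹⟩
          have h3 := hQn.conj_mem _ h2 g
          rw [show g * (g⁻¹ * (x : G) * g) * g⁻¹ = (x : G) by group] at h3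
          exact h3
        exact S.not_dvd_index (hd.trans (Subgroup.index_dvd_of_le hle))
      stable := fun s x hx => hQn.conj_mem (x : G) hx s
      mem_iff := fun x => by
        constructor
        · intro hx s
          refine ⟨?_, (act s x * x⁻¹).2⟩
          change (s : G) * x * (s : G)⁻¹ * (x : G)⁻¹ ∈ (P : Subgroup G)
          rw [show (s : G) * x * (s : G)⁻¹ * (x : G)⁻¹ = (s : G) * ((x : G) * (s : G)⁻¹ * (x : G)⁻¹)
            by group]
          exact Subgroup.mul_mem _ s.2
            ((Subgroup.mem_normalizer_iff.1 hx _).1 (Subgroup.inv_mem _ s.2))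
        · intro hx
          refine CfsgLib.Coprime.mem_normalizer_of_forall_conj fun u hu => ?_
          have h1 : u⁻¹ * (x : G) * u⁻¹⁻¹ * (x : G)⁻¹ ∈ (P : Subgroup G) :=
            (hx ⟨u⁻¹, Subgroup.inv_mem _ hu⟩).1
          have h2 := Subgroup.mul_mem _ hu h1
          simpa [mul_assoc] using h2 }
  obtain ⟨f, hfb, hf⟩ := CfsgLib.CharCorrQ.exists_correspondence hset
  -- invariance as membership of the inertia group
  have hInv : ∀ θ : IrrCharacter K, Inv act θ ↔ (P : Subgroup G) ≤ inertia hKn (θ : K → ℂ) :=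
    fun θ => ⟨fun h u hu => mem_inertia.2 fun k => h ⟨u, hu⟩ k,
      fun h s k => mem_inertia.1 (h s.2) k⟩
  -- conjugation by elements of the normalizer
  let eK : N → (K ≃* K) := fun n => MulAut.conjNormal (n : G)
  have hCn : ∀ (n : N) (c : C), eK n c ∈ C := fun n c =>
    N.mul_mem (N.mul_mem n.2 c.2) (N.inv_mem n.2)
  let eN : N → (C ≃* C) := fun n =>
    { toFun := fun c => ⟨eK n c, hCn n c⟩
      invFun := fun c => ⟨(eK n).symm c, by
        change ((((eK n).symm c : K)) : G) ∈ N
        rw [MulAut.conjNormal_symm_apply]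
        exact N.mul_mem (N.mul_mem (N.inv_mem n.2) c.2) n.2⟩
      left_inv := fun c => Subtype.ext ((eK n).symm_apply_apply _)
      right_inv := fun c => Subtype.ext ((eK n).apply_symm_apply _)
      map_mul' := fun a b => Subtype.ext (map_mul (eK n) _ _) }
  have hTwInv : ∀ (n : N) (θ : IrrCharacter K), Inv act θ → Inv act (twistIrr (eK n) θ) := by
    intro n θ hθ s k
    have hs : (n : G) * s * (n : G)⁻¹ ∈ (P : Subgroup G) :=
      (Subgroup.mem_normalizer_iff.1 n.2 _).1 s.2
    have h := hθ ⟨_, hs⟩ (eK n k)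
    refine Eq.trans ?_ h
    refine congrArg (θ : K → ℂ) (Subtype.ext ?_)
    change (n : G) * ((s : G) * k * (s : G)⁻¹) * (n : G)⁻¹ =
      ((n : G) * s * (n : G)⁻¹) * ((n : G) * k * (n : G)⁻¹) * ((n : G) * s * (n : G)⁻¹)⁻¹
    group
  have hTwInvC : ∀ (n : N) (η : IrrCharacter C), Inv (restrictAct act C hset.stableC) η →
      Inv (restrictAct act C hset.stableC) (twistIrr (eN n) η) := by
    intro n η hη s c
    have hs : (n : G) * s * (n : G)⁻¹ ∈ (P : Subgroup G) :=
      (Subgroup.mem_normalizer_iff.1 n.2 _).1 s.2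
    have h := hη ⟨_, hs⟩ (eN n c)
    refine Eq.trans ?_ h
    refine congrArg (η : C → ℂ) (Subtype.ext (Subtype.ext ?_))
    change (n : G) * ((s : G) * ((c : K) : G) * (s : G)⁻¹) * (n : G)⁻¹ =
      ((n : G) * s * (n : G)⁻¹) * ((n : G) * ((c : K) : G) * (n : G)⁻¹) * ((n : G) * s * (n : G)⁻¹)⁻¹
    group
  have hequiv : ∀ (n : N) (θ : {θ : IrrCharacter K // Inv act θ}),
      (f ⟨twistIrr (eK n) θ.1, hTwInv n θ.1 θ.2⟩).1 = twistIrr (eN n) (f θ).1 := by
    intro n θ
    by_contra hne
    have h := (hf ⟨twistIrr (eK n) θ.1, hTwInv n θ.1 θ.2⟩).2.1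
      ⟨twistIrr (eN n) (f θ).1, hTwInvC n _ (f θ).2⟩ (fun e => hne (congrArg Subtype.val e).symm)
    rw [CfsgLib.CharCorr.mult_twist C.subtype (eK n) (eN n) (fun _ => rfl)] at h
    rw [← ZMod.natCast_eq_zero_iff] at h
    rcases (hf θ).1 with e | e <;> rw [e] at h
    · exact one_ne_zero h
    · exact one_ne_zero (neg_eq_zero.1 h)
  -- complex conjugation
  have hconjInv : ∀ θ : IrrCharacter K, Inv act θ → Inv act (conjIrr θ) := fun θ h s k => by
    simp [h s k]
  have hconjInvC : ∀ η : IrrCharacter C, Inv (restrictAct act C hset.stableC) η →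
      Inv (restrictAct act C hset.stableC) (conjIrr η) := fun η h s k => by
    simp [h s k]
  have hfreal : ∀ θ : {θ : IrrCharacter K // Inv act θ},
      (∀ k, ((θ.1 : K → ℂ) k).im = 0) ↔ ∀ c, (((f θ).1 : C → ℂ) c).im = 0 := by
    intro θ
    have hc : (f ⟨conjIrr θ.1, hconjInv θ.1 θ.2⟩).1 = conjIrr (f θ).1 := by
      by_contra hne
      have h := (hf ⟨conjIrr θ.1, hconjInv θ.1 θ.2⟩).2.1
        ⟨conjIrr (f θ).1, hconjInvC _ (f θ).2⟩ (fun e => hne (congrArg Subtype.val e).symm)
      rw [mult_conjIrr] at h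
      rw [← ZMod.natCast_eq_zero_iff] at h
      rcases (hf θ).1 with e | e <;> rw [e] at h
      · exact one_ne_zero h
      · exact one_ne_zero (neg_eq_zero.1 h)
    rw [← conjIrr_eq_self_iff, ← conjIrr_eq_self_iff, ← hc]
    constructor
    · intro h
      exact congrArg (fun z => (f z).1) (Subtype.ext h : (⟨conjIrr θ.1, _⟩ : {θ // Inv act θ}) = θ)
    · intro h
      exact congrArg Subtype.val (hfb.1 (Subtype.ext h))
  -- the character of `C'` attached to `θ`
  let down : {θ : IrrCharacter K // Inv act θ} → IrrCharacter C' := fun θ => twistIrr eC (f θ).1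
  have hdreal : ∀ θ : {θ : IrrCharacter K // Inv act θ}, (∀ k, ((θ.1 : K → ℂ) k).im = 0) →
      ∀ c, ((down θ : C' → ℂ) c).im = 0 := fun θ h c => (hfreal θ).1 h (eC c)
  -- conjugates correspond
  have hdown : ∀ (θ θ' : {θ : IrrCharacter K // Inv act θ}) (n : N),
      (θ'.1 : K → ℂ) = conjChar hKn (θ.1 : K → ℂ) n ↔
        (down θ' : C' → ℂ) = conjChar hC'n (down θ : C' → ℂ) n := by
    intro θ θ' n
    have e1 : (twistIrr (eK n) θ.1 : K → ℂ) = conjChar hKn (θ.1 : K → ℂ) n :=
      funext fun k => rfl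
    have e2 : (twistIrr eC (twistIrr (eN n) (f θ).1) : C' → ℂ) =
        conjChar hC'n (down θ : C' → ℂ) n := funext fun k => rfl
    rw [← e1, ← e2, ← hequiv]
    constructor
    · intro h
      rw [show θ' = ⟨twistIrr (eK n) θ.1, hTwInv n θ.1 θ.2⟩ from Subtype.ext (Subtype.ext h)]
    · intro h
      have h2 : (f θ').1 = (f ⟨twistIrr (eK n) θ.1, hTwInv n θ.1 θ.2⟩).1 :=
        Subtype.ext (funext fun c => congrFun h (eC.symm c))
      exact congrArg Subtype.val (congrArg Subtype.val (hfb.1 (Subtype.ext h2)))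
  have hinertia : ∀ θ : {θ : IrrCharacter K // Inv act θ},
      inertia hC'n (down θ : C' → ℂ) = (inertia hKn (θ.1 : K → ℂ)).subgroupOf N := fun θ =>
    SetLike.ext fun n => by
      change conjChar hC'n (down θ : C' → ℂ) n = down θ ↔ conjChar hKn (θ.1 : K → ℂ) n = θ.1
      exact ⟨fun h => ((hdown θ θ n).2 h.symm).symm, fun h => ((hdown θ θ n).1 h.symm).symm⟩
  -- real characters of `G`: an invariant real constituent
  have hconst : ∀ χ : {χ : IrrCharacter G // ∀ g : G, ((χ : G → ℂ) g).im = 0},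
      ∃ θ : {θ : IrrCharacter K // Inv act θ},
        (∀ k, ((θ.1 : K → ℂ) k).im = 0) ∧ mult K.subtype χ.1 θ.1 ≠ 0 := by
    intro χ
    obtain ⟨θ, hθr, hθm⟩ := exists_real_constituent K hodd χ.1 χ.2
    have hd := degree_of_real_over K hodd θ hθr χ.1 χ.2 hθm
    have hpI : ¬ p ∣ (inertia hKn (θ : K → ℂ)).index := fun h =>
      hreal χ.1 χ.2 (hd ▸ h.mul_right _)
    set I := inertia hKn (θ : K → ℂ)
    obtain ⟨S⟩ : Nonempty (Sylow p I) := inferInstance
    obtain ⟨P', hP'⟩ := (S.isPGroup'.map I.subtype).exists_le_sylow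
    have hScard : Nat.card ((S : Subgroup I).map I.subtype) = Nat.card (P' : Subgroup G) := by
      rw [Subgroup.card_map_of_injective I.subtype_injective, S.card_eq_multiplicity,
        P'.card_eq_multiplicity, ← I.card_mul_index,
        Nat.factorization_mul Nat.card_pos.ne' Subgroup.index_ne_zero_of_finite,
        Finsupp.add_apply, Nat.factorization_eq_zero_of_not_dvd hpI, add_zero]
    have hP'I : (P' : Subgroup G) ≤ I :=
      Subgroup.eq_of_le_of_card_ge hP' hScard.symm.le ▸ Subgroup.map_subtype_le _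
    obtain ⟨g, hg⟩ := MulAction.exists_smul_eq G P P'
    let θ' : IrrCharacter K :=
      ⟨conjChar hKn (θ : K → ℂ) g, CfsgLib.Clifford.isIrrCharacter_conjChar hKn θ.2 g⟩
    refine ⟨⟨θ', (hInv θ').2 fun u hu => mem_inertia.2 fun k => ?_⟩, fun k => hθr _, ?_⟩
    · have hu' : g * u * g⁻¹ ∈ I := hP'I (by
        rw [← hg, Sylow.coe_subgroup_smul, CfsgLib.Coprime.mem_conj_smul]
        simpa [mul_assoc] using hu)
      refine Eq.trans ?_ (mem_inertia.1 hu' ⟨g * k * g⁻¹, hKn.conj_mem (k : G) k.2 g⟩)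
      exact congrArg (θ : K → ℂ) (Subtype.ext (by group))
    · change mult K.subtype χ.1 θ' ≠ 0
      rwa [mult_conjugate K χ.1 θ θ' g rfl]
  -- conjugate invariant characters are conjugate in the normalizer
  have hNconj : ∀ (θ θ' : {θ : IrrCharacter K // Inv act θ}) (g : G),
      (θ'.1 : K → ℂ) = conjChar hKn (θ.1 : K → ℂ) g →
      ∃ n : N, (θ'.1 : K → ℂ) = conjChar hKn (θ.1 : K → ℂ) n := by
    intro θ θ' g hg
    set I := inertia hKn (θ.1 : K → ℂ) with hIdef
    have hPI : (P : Subgroup G) ≤ I := (hInv θ.1).1 θ.2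
    have hgPI : ((g • P : Sylow p G) : Subgroup G) ≤ I := by
      intro x hx
      rw [Sylow.coe_subgroup_smul, CfsgLib.Coprime.mem_conj_smul] at hx
      have h1 : g⁻¹ * x * g ∈ inertia hKn (θ'.1 : K → ℂ) := (hInv θ'.1).1 θ'.2 hx
      refine mem_inertia.2 fun k => ?_
      have hk' : g⁻¹ * (k : G) * g ∈ K := by simpa using hKn.conj_mem (k : G) k.2 g⁻¹
      have h2 := mem_inertia.1 h1 ⟨_, hk'⟩
      rw [hg] at h2
      refine Eq.trans ?_ (Eq.trans h2 ?_)
      · exact congrArg (θ.1 : K → ℂ) (Subtype.ext (by group))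
      · exact congrArg (θ.1 : K → ℂ) (Subtype.ext (by group))
    obtain ⟨y, hy⟩ := MulAction.exists_smul_eq I ((g • P).subtype hgPI) (P.subtype hPI)
    have hyg : (y : G) * g ∈ N := by
      refine CfsgLib.Coprime.mem_normalizer_of_forall_conj fun u hu => ?_
      have h1 : g * u * g⁻¹ ∈ ((g • P : Sylow p G) : Subgroup G) := by
        rw [Sylow.coe_subgroup_smul, CfsgLib.Coprime.mem_conj_smul]
        simpa [mul_assoc] using hu
      have h2 : y * ⟨g * u * g⁻¹, hgPI h1⟩ * y⁻¹ ∈ ((P.subtype hPI : Sylow p I) : Subgroup I) := by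
        rw [← hy, Sylow.coe_subgroup_smul, CfsgLib.Coprime.mem_conj_smul]
        simpa [mul_assoc, Subgroup.mem_subgroupOf] using h1
      rw [Sylow.coe_subtype, Subgroup.mem_subgroupOf] at h2
      simpa [mul_assoc] using h2
    refine ⟨⟨_, hyg⟩, ?_⟩
    rw [hg, ← CfsgLib.Clifford.conjChar_mul,
      show conjChar hKn (θ.1 : K → ℂ) y = θ.1 from y.2]
  choose th hth using hconst
  have hxiex : ∀ χ, ∃ ξ : {ξ : IrrCharacter N //
      (∀ n, ((ξ : N → ℂ) n).im = 0) ∧ ¬ p ∣ charDegree (ξ : N → ℂ)},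
      mult C'.subtype ξ.1 (down (th χ)) ≠ 0 ∧
        ((charDegree (ξ.1 : N → ℂ) : ZMod p) = (charDegree (χ.1 : G → ℂ) : ZMod p) ∨
          (charDegree (ξ.1 : N → ℂ) : ZMod p) = -(charDegree (χ.1 : G → ℂ) : ZMod p)) := by
    intro χ
    obtain ⟨ξ, hξr, hξm⟩ := exists_real_over' C' hodd' (down (th χ)) (hdreal _ (hth χ).1)
    have hd1 := degree_of_real_over C' hodd' (down (th χ)) (hdreal _ (hth χ).1) ξ hξr hξm
    have hd2 := degree_of_real_over K hodd (th χ).1 (hth χ).1 χ.1 χ.2 (hth χ).2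
    have hidx := index_congr P (inertia hKn ((th χ).1 : K → ℂ)) ((hInv _).1 (th χ).2)
    rw [hinertia] at hd1
    have hdeg : charDegree (down (th χ) : C' → ℂ) = charDegree ((f (th χ)).1 : C → ℂ) := by
      simp [charDegree, down]
    rw [hdeg] at hd1
    have hcases : (charDegree (ξ : N → ℂ) : ZMod p) = (charDegree (χ.1 : G → ℂ) : ZMod p) ∨
        (charDegree (ξ : N → ℂ) : ZMod p) = -(charDegree (χ.1 : G → ℂ) : ZMod p) := by
      rw [hd1, hd2, Nat.cast_mul, Nat.cast_mul, hidx]
      rcases (hf (th χ)).2.2 with e | e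
      · exact Or.inl (by rw [e])
      · exact Or.inr (by rw [e, mul_neg])
    refine ⟨⟨ξ, hξr, fun hd => hreal χ.1 χ.2 ?_⟩, hξm, hcases⟩
    rw [← ZMod.natCast_eq_zero_iff] at hd ⊢
    rcases hcases with e | e
    · rw [← e, hd]
    · rw [hd] at e
      exact neg_eq_zero.1 e.symm
  choose F hF using hxiex
  refine ⟨F, ⟨?_, ?_⟩, fun χ => (hF χ).2⟩
  · -- injective
    intro χ χ' he
    obtain ⟨n, hn⟩ := exists_conjugate C' (F χ').1 (down (th χ)) (down (th χ'))
      (he ▸ (hF χ).1) (hF χ').1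
    have h1 := (hdown (th χ) (th χ') n).2 hn
    have h2 := mult_conjugate K χ.1 (th χ).1 (th χ').1 (n : G) h1
    exact Subtype.ext (eq_of_real_over' K hodd (th χ').1 (hth χ').1 χ.1 χ'.1 χ.2
      (h2 ▸ (hth χ).2) χ'.2 (hth χ').2)
  · -- surjective
    intro ξ
    obtain ⟨η', hη'r, hη'm⟩ := exists_real_constituent C' hodd' ξ.1 ξ.2.1
    have hd := degree_of_real_over C' hodd' η' hη'r ξ.1 ξ.2.1 hη'm
    have hpI : ¬ p ∣ (inertia hC'n (η' : C' → ℂ)).index := fun h => ξ.2.2 (hd ▸ h.mul_right _)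
    set I := inertia hC'n (η' : C' → ℂ) with hI
    have hPI : ((P.subtype hPN : Sylow p N) : Subgroup N) ≤ I := by
      haveI : ((P.subtype hPN : Sylow p N) : Subgroup N).Normal := by
        rw [Sylow.coe_subtype]
        exact Subgroup.normal_subgroupOf_iff_le_normalizer hPN |>.2 le_rfl
      obtain ⟨S⟩ : Nonempty (Sylow p I) := inferInstance
      obtain ⟨P', hP'⟩ := (S.isPGroup'.map I.subtype).exists_le_sylow
      have hScard : Nat.card ((S : Subgroup I).map I.subtype) = Nat.card (P' : Subgroup N) := by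
        rw [Subgroup.card_map_of_injective I.subtype_injective, S.card_eq_multiplicity,
          P'.card_eq_multiplicity, ← I.card_mul_index,
          Nat.factorization_mul Nat.card_pos.ne' Subgroup.index_ne_zero_of_finite,
          Finsupp.add_apply, Nat.factorization_eq_zero_of_not_dvd hpI, add_zero]
      have hP'I : (P' : Subgroup N) ≤ I :=
        Subgroup.eq_of_le_of_card_ge hP' hScard.symm.le ▸ Subgroup.map_subtype_le _
      obtain ⟨z, hz⟩ := MulAction.exists_smul_eq N P' (P.subtype hPN)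
      intro x hx
      have hx' : z * x * z⁻¹ ∈ ((P.subtype hPN : Sylow p N) : Subgroup N) :=
        Subgroup.Normal.conj_mem inferInstance x hx z
      rw [← hz, Sylow.coe_subgroup_smul, CfsgLib.Coprime.mem_conj_smul] at hx'
      exact hP'I (by simpa [mul_assoc] using hx')
    let η : IrrCharacter C := twistIrr eC.symm η'
    have hη : Inv (restrictAct act C hset.stableC) η := fun s c => by
      have hs : (⟨(s : G), hPN s.2⟩ : N) ∈ I := hPI (by
        rw [Sylow.coe_subtype, Subgroup.mem_subgroupOf]; exact s.2)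
      exact mem_inertia.1 hs (eC.symm c)
    obtain ⟨θ, hθ⟩ := hfb.2 ⟨η, hη⟩
    have hθ' : (f θ).1 = η := congrArg Subtype.val hθ
    have hde : down θ = η' := Subtype.ext (funext fun c => by
      change ((f θ).1 : C → ℂ) (eC c) = (η' : C' → ℂ) c
      rw [hθ']
      change (η' : C' → ℂ) (eC.symm (eC c)) = _
      rw [MulEquiv.symm_apply_apply])
    have hθr : ∀ k, ((θ.1 : K → ℂ) k).im = 0 := (hfreal θ).2 (by
      rw [hθ']; exact fun c => hη'r _)
    obtain ⟨χ, hχr, hχm⟩ := exists_real_over' K hodd θ.1 hθr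
    refine ⟨⟨χ, hχr⟩, ?_⟩
    obtain ⟨g, hg⟩ := exists_conjugate K χ θ.1 (th ⟨χ, hχr⟩).1 hχm (hth ⟨χ, hχr⟩).2
    obtain ⟨n, hn⟩ := hNconj θ (th ⟨χ, hχr⟩) g hg
    have h1 := (hdown θ (th ⟨χ, hχr⟩) n).1 hn
    rw [hde] at h1
    have h2 := mult_conjugate C' ξ.1 η' (down (th ⟨χ, hχr⟩)) n h1
    exact Subtype.ext (eq_of_real_over' C' hodd' (down (th ⟨χ, hχr⟩))
      (hdreal _ (hth ⟨χ, hχr⟩).1) (F ⟨χ, hχr⟩).1 ξ.1 (F ⟨χ, hχr⟩).2.1 (hF ⟨χ, hχr⟩).1 ξ.2.1
      (h2 ▸ hη'm))

end CfsgLib.RealDegrees
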