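import Cfsg.Agent.Lib.RealDegrees.Core
import Cfsg.Agent.Lib.RealDegrees.Correspondence

/-!
# Real classes and the Sylow normalizer
-/

set_option autoImplicit false
set_option linter.style.haveILetI false
set_option linter.unusedSectionVars false
set_option linter.unusedFintypeInType false

namespace CfsgLib.RealDegrees

open Cfsg
open CfsgLib.Characters
open CfsgLib.CharCorr (mult irr_one_eq_charDegree)

universe u
variable {G : Type u} [Group G] [Finite G]

/-- The hypotheses give a normal subgroup of odd index with normal Sylow `p`-subgroup. -/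
theorem exists_residual {p : ℕ} [hp : Fact p.Prime]
    (hsolv : Group.IsSolvable ↥(Subgroup.closure {g : G | ∃ k : ℕ, orderOf g = p ^ k}))
    (hreal : ∀ χ : IrrCharacter G, (∀ g, ((χ : G → ℂ) g).im = 0) → ¬ p ∣ charDegree (χ : G → ℂ))
    (P : Sylow p G) :
    ∃ K : Subgroup G, K.Normal ∧ Odd K.index ∧ ((P : Subgroup G) ⊓ K).Normal := by
  haveI : Fact (Nat.Prime 2) := ⟨Nat.prime_two⟩
  obtain ⟨hLn, hLp⟩ := closure_pElements (G := G) p
  obtain ⟨hKn, hK2⟩ := closure_pElements (G := G) 2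
  exact ⟨_, hKn, Nat.not_even_iff_odd.1 fun h => hK2 (even_iff_two_dvd.1 h),
    normal_sylow (Nat.card G) le_rfl hreal _ hLn hsolv hLp _ hKn closure_twoElements_gen _ hKn le_rfl
      ⟨0, by rw [Subgroup.relIndex_self, pow_zero]⟩ P⟩

/-- Real classes meet the normalizer when the Sylow subgroup meets the residual trivially. -/
theorem exists_conj_mem_normalizer {p : ℕ} [hp : Fact p.Prime] (K : Subgroup G) [K.Normal]
    (hodd : Odd K.index) (P : Sylow p G) (hPK : (P : Subgroup G) ⊓ K = ⊥)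
    (hreal : ∀ χ : IrrCharacter G, (∀ g, ((χ : G → ℂ) g).im = 0) → ¬ p ∣ charDegree (χ : G → ℂ))
    (x : G) (hx : IsConj x x⁻¹) :
    ∃ y ∈ Subgroup.normalizer ((P : Subgroup G) : Set G), IsConj x y := by
  classical
  haveI := Fintype.ofFinite G
  set N := Subgroup.normalizer ((P : Subgroup G) : Set G) with hN
  haveI := Fintype.ofFinite N
  have hPN : (P : Subgroup G) ≤ N := Subgroup.le_normalizer
  let C : Subgroup N := K.subgroupOf N
  haveI hCn : C.Normal := (inferInstance : K.Normal).subgroupOf N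
  haveI := Fintype.ofFinite C
  have hoddC : Odd C.index := hodd.of_dvd_nat (Subgroup.relIndex_dvd_index_of_normal K N)
  have hcomm : ∀ u ∈ (P : Subgroup G), ∀ c : N, c ∈ C → u * (c : G) = (c : G) * u := by
    intro u hu c hc
    have h1 : u * c * u⁻¹ * (c : G)⁻¹ ∈ (P : Subgroup G) := by
      rw [show u * c * u⁻¹ * (c : G)⁻¹ = u * ((c : G) * u⁻¹ * (c : G)⁻¹) by group]
      exact Subgroup.mul_mem _ hu ((Subgroup.mem_normalizer_iff.1 c.2 _).1 (Subgroup.inv_mem _ hu))
    have h2 : u * c * u⁻¹ * (c : G)⁻¹ ∈ K :=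
      K.mul_mem ((inferInstance : K.Normal).conj_mem _ hc u) (K.inv_mem hc)
    have h3 : u * c * u⁻¹ * (c : G)⁻¹ ∈ (P : Subgroup G) ⊓ K := ⟨h1, h2⟩
    rw [hPK, Subgroup.mem_bot, mul_inv_eq_one] at h3
    exact mul_inv_eq_iff_eq_mul.1 h3
  -- all real characters of the normalizer have degree prime to `p`
  have hall : ∀ ξ : IrrCharacter N, (∀ n, ((ξ : N → ℂ) n).im = 0) →
      ¬ p ∣ charDegree (ξ : N → ℂ) := by
    intro ξ hξ
    obtain ⟨η, hηr, hηm⟩ := exists_real_constituent C hoddC ξ hξ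
    rw [degree_of_real_over C hoddC η hηr ξ hξ hηm, hp.out.dvd_mul, not_or]
    refine ⟨fun hd => ?_, fun hd => ?_⟩
    · have hle : ((P : Subgroup G).subgroupOf N) ≤ CfsgLib.Clifford.inertia hCn (η : C → ℂ) := by
        intro u hu
        refine CfsgLib.Clifford.mem_inertia.2 fun c => congrArg (η : C → ℂ) (Subtype.ext (Subtype.ext ?_))
        change (u : G) * ((c : N) : G) * (u : G)⁻¹ = ((c : N) : G)
        rw [hcomm u hu c c.2, mul_inv_cancel_right]
      exact (P.subtype hPN).not_dvd_index (hd.trans (Subgroup.index_dvd_of_le hle))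
    · have h1 : p ∣ Nat.card C := hd.trans (CfsgLib.CharCorr.charDegree_irr_dvd_card η)
      obtain ⟨c, hc⟩ := exists_prime_orderOf_dvd_card' p h1
      have hord : orderOf ((c : N) : G) = p := by
        rw [Subgroup.orderOf_coe, Subgroup.orderOf_coe, hc]
      have hcP : ((c : N) : G) ∈ (P : Subgroup G) := by
        obtain ⟨S, hS⟩ := (IsPGroup.of_card (p := p) (n := 1)
          (G := Subgroup.zpowers ((c : N) : G)) (by rw [Nat.card_zpowers, hord, pow_one])).exists_le_sylow
        -- `P` is normal in `N`, so it contains every `p`-element of `N`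
        have hsub : ((P.subtype hPN : Sylow p N) : Subgroup N).Normal := by
          rw [Sylow.coe_subtype]
          exact (Subgroup.normal_subgroupOf_iff_le_normalizer hPN).2 le_rfl
        have hz : IsPGroup p (Subgroup.zpowers (c : N)) :=
          IsPGroup.of_card (n := 1) (by rw [Nat.card_zpowers, Subgroup.orderOf_coe, hc, pow_one])
        obtain ⟨S', hS'⟩ := hz.exists_le_sylow
        haveI := hsub
        haveI := Sylow.unique_of_normal (P.subtype hPN) hsub
        have h2 : (c : N) ∈ ((P.subtype hPN : Sylow p N) : Subgroup N) := by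
          rw [show P.subtype hPN = S' from Subsingleton.elim _ _]
          exact hS' (Subgroup.mem_zpowers _)
        rwa [Sylow.coe_subtype, Subgroup.mem_subgroupOf] at h2
      have h3 : ((c : N) : G) ∈ (P : Subgroup G) ⊓ K := ⟨hcP, c.2⟩
      rw [hPK, Subgroup.mem_bot] at h3
      rw [h3, orderOf_one] at hord
      exact hp.out.ne_one hord.symm
  obtain ⟨F, hF, -⟩ := exists_bijection K hodd P (hPK ▸ inferInstance) hreal
  have hcard : Nat.card {c : ConjClasses N // ∀ g, ConjClasses.mk g = c → IsConj g g⁻¹} =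
      Nat.card {c : ConjClasses G // ∀ g, ConjClasses.mk g = c → IsConj g g⁻¹} := by
    rw [← CfsgLib.RealOverNormal.card_real_irr, ← CfsgLib.RealOverNormal.card_real_irr,
      Nat.card_congr (Equiv.ofBijective F hF)]
    exact Nat.card_congr (Equiv.subtypeEquivRight fun ξ => ⟨fun h => ⟨h, hall ξ h⟩, fun h => h.1⟩)
  let j : {c : ConjClasses N // ∀ g, ConjClasses.mk g = c → IsConj g g⁻¹} →
      {c : ConjClasses G // ∀ g, ConjClasses.mk g = c → IsConj g g⁻¹} := fun c =>
    ⟨ConjClasses.map N.subtype c.1, by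
      obtain ⟨c, hc⟩ := c
      obtain ⟨y, rfl⟩ := ConjClasses.exists_rep c
      intro g hg
      have h1 : IsConj g (y : G) := ConjClasses.mk_eq_mk_iff_isConj.1 hg
      exact h1.trans ((N.subtype.map_isConj (hc y rfl)).trans
        (CfsgLib.RealOverNormal.isConj_inv_congr h1.symm))⟩
  haveI : Finite (ConjClasses N) := Finite.of_surjective _ ConjClasses.mk_surjective
  haveI : Finite (ConjClasses G) := Finite.of_surjective _ ConjClasses.mk_surjective
  have hinj : Function.Injective j := by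
    rintro ⟨c, hc⟩ ⟨c', hc'⟩ he
    obtain ⟨y, rfl⟩ := ConjClasses.exists_rep c
    obtain ⟨y', rfl⟩ := ConjClasses.exists_rep c'
    have hy' : y' ∈ C := CfsgLib.RealOverNormal.mem_of_real C hoddC (hc' y' rfl)
    have hy : y ∈ C := CfsgLib.RealOverNormal.mem_of_real C hoddC (hc y rfl)
    obtain ⟨g, hg⟩ := isConj_iff.1 (ConjClasses.mk_eq_mk_iff_isConj.1 (congrArg Subtype.val he))
    change g * (y : G) * g⁻¹ = (y' : G) at hg
    set Z := Subgroup.centralizer ({(y' : G)} : Set G) with hZ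
    have hPZ : (P : Subgroup G) ≤ Z := fun u hu =>
      Subgroup.mem_centralizer_singleton_iff.2 (hcomm u hu y' hy')
    have hgPZ : ((g • P : Sylow p G) : Subgroup G) ≤ Z := fun u hu => by
      rw [Sylow.coe_subgroup_smul, CfsgLib.Coprime.mem_conj_smul] at hu
      have h1 := hcomm _ hu y hy
      refine Subgroup.mem_centralizer_singleton_iff.2 ?_
      rw [← hg]
      calc u * (g * y * g⁻¹) = g * ((g⁻¹ * u * g) * y) * g⁻¹ := by group
        _ = g * (y * (g⁻¹ * u * g)) * g⁻¹ := by rw [h1]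
        _ = _ := by group
    obtain ⟨z, hz⟩ := MulAction.exists_smul_eq Z ((g • P).subtype hgPZ) (P.subtype hPZ)
    have hzg : (z : G) * g ∈ N := by
      refine CfsgLib.Coprime.mem_normalizer_of_forall_conj fun u hu => ?_
      have h1 : g * u * g⁻¹ ∈ ((g • P : Sylow p G) : Subgroup G) := by
        rw [Sylow.coe_subgroup_smul, CfsgLib.Coprime.mem_conj_smul]
        simpa [mul_assoc] using hu
      have h2 : z * ⟨g * u * g⁻¹, hgPZ h1⟩ * z⁻¹ ∈ ((P.subtype hPZ : Sylow p Z) : Subgroup Z) := by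
        rw [← hz, Sylow.coe_subgroup_smul, CfsgLib.Coprime.mem_conj_smul]
        simpa [mul_assoc, Subgroup.mem_subgroupOf] using h1
      rw [Sylow.coe_subtype, Subgroup.mem_subgroupOf] at h2
      simpa [mul_assoc] using h2
    refine Subtype.ext (ConjClasses.mk_eq_mk_iff_isConj.2 (isConj_iff.2 ⟨⟨_, hzg⟩, Subtype.ext ?_⟩))
    change (z : G) * g * y * ((z : G) * g)⁻¹ = y'
    calc (z : G) * g * y * ((z : G) * g)⁻¹ = (z : G) * (g * y * g⁻¹) * (z : G)⁻¹ := by group
      _ = (z : G) * y' * (z : G)⁻¹ := by rw [hg]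
      _ = _ := by rw [Subgroup.mem_centralizer_singleton_iff.1 z.2, mul_inv_cancel_right]
  have hsurj := (hinj.bijective_of_nat_card_le hcard.ge).2
  obtain ⟨⟨c, hc⟩, he⟩ := hsurj ⟨ConjClasses.mk x, fun g hg => by
    have h1 : IsConj g x := ConjClasses.mk_eq_mk_iff_isConj.1 hg
    exact h1.trans (hx.trans (CfsgLib.RealOverNormal.isConj_inv_congr h1.symm))⟩
  obtain ⟨y, rfl⟩ := ConjClasses.exists_rep c
  exact ⟨y, y.2, (ConjClasses.mk_eq_mk_iff_isConj.1 (congrArg Subtype.val he)).symm⟩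

/-- The general case: reduce modulo the normal Sylow subgroup of the residual. -/
theorem exists_conj_mem_normalizer_of_normal {p : ℕ} [hp : Fact p.Prime] (K : Subgroup G)
    [hKn : K.Normal] (hodd : Odd K.index) (P : Sylow p G) (hQn : ((P : Subgroup G) ⊓ K).Normal)
    (hreal : ∀ χ : IrrCharacter G, (∀ g, ((χ : G → ℂ) g).im = 0) → ¬ p ∣ charDegree (χ : G → ℂ))
    (x : G) (hx : IsConj x x⁻¹) :
    ∃ y ∈ Subgroup.normalizer ((P : Subgroup G) : Set G), IsConj x y := by
  haveI := hQn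
  set Q := (P : Subgroup G) ⊓ K with hQ
  set π := QuotientGroup.mk' Q with hπ
  have hsurj : Function.Surjective π := QuotientGroup.mk'_surjective Q
  haveI : (K.map π).Normal := hKn.map π hsurj
  have hinf : ((P.mapSurjective hsurj : Sylow p (G ⧸ Q)) : Subgroup (G ⧸ Q)) ⊓ K.map π = ⊥ := by
    rw [Subgroup.eq_bot_iff_forall, Sylow.coe_mapSurjective]
    rintro _ ⟨⟨a, ha, rfl⟩, b, hb, hab⟩
    have h1 : b⁻¹ * a ∈ Q := QuotientGroup.eq.1 hab
    refine (QuotientGroup.eq_one_iff a).2 ⟨ha, ?_⟩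
    have h2 := K.mul_mem hb h1.2
    rwa [mul_inv_cancel_left] at h2
  obtain ⟨yb, hyb, hconj⟩ := exists_conj_mem_normalizer (K.map π)
    (hodd.of_dvd_nat (Subgroup.index_map_dvd _ hsurj)) (P.mapSurjective hsurj) hinf
    (fun χ hχ => by
      let χ' : IrrCharacter G := ⟨_, CfsgLib.Clifford.isIrrCharacter_pullback χ.2 π hsurj⟩
      have e : charDegree (χ' : G → ℂ) = charDegree (χ : G ⧸ Q → ℂ) := by simp [charDegree, χ']
      exact e ▸ hreal χ' fun g => hχ _)
    (π x) (by rw [← map_inv]; exact π.map_isConj hx)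
  obtain ⟨g, hg⟩ := isConj_iff.1 hconj
  obtain ⟨g, rfl⟩ := hsurj g
  refine ⟨g * x * g⁻¹, ?_, isConj_iff.2 ⟨g, rfl⟩⟩
  refine CfsgLib.Coprime.mem_normalizer_of_forall_conj fun u hu => ?_
  have h1 : π (g * x * g⁻¹ * u * (g * x * g⁻¹)⁻¹) ∈
      ((P.mapSurjective hsurj : Sylow p (G ⧸ Q)) : Subgroup (G ⧸ Q)) := by
    rw [map_mul, map_mul, map_inv, show π (g * x * g⁻¹) = yb by rw [map_mul, map_mul, map_inv, hg]]
    exact (Subgroup.mem_normalizer_iff.1 hyb _).1 (Subgroup.mem_map_of_mem π hu)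
  obtain ⟨a, ha, hab⟩ := h1
  have h2 : a⁻¹ * (g * x * g⁻¹ * u * (g * x * g⁻¹)⁻¹) ∈ Q := QuotientGroup.eq.1 hab
  have h3 := Subgroup.mul_mem _ ha h2.1
  rwa [mul_inv_cancel_left] at h3

end CfsgLib.RealDegrees
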