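import Cfsg.Agent.Lib.CharCorr.NormalSylowBase
import Cfsg.Agent.Lib.Characters.RealOverNormal
import Cfsg.Agent.Lib.Characters.Clifford
import Cfsg.Agent.Lib.CrossDegrees.Normalizer

/-!
# Real characters and a normal subgroup of odd index: constituents, degrees, orbits
-/

set_option autoImplicit false
set_option linter.style.haveILetI false
set_option linter.unusedSectionVars false
set_option linter.unusedFintypeInType false

namespace CfsgLib.RealDegrees

open Cfsg
open CfsgLib.Characters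
open CfsgLib.CharCorr (mult mult_spec irr_one_eq_charDegree)
open scoped ComplexConjugate

universe u
variable {G : Type u} [Group G]

/-- A multiplicity is a multiplicity in the sense of inner products. -/
theorem mult_eq_classInner (N : Subgroup G) [Fintype N] (χ : IrrCharacter G) (φ : IrrCharacter N) :
    CfsgLib.NormalRes.mult N (χ : G → ℂ) φ = (mult N.subtype χ φ : ℂ) :=
  mult_spec N.subtype χ φ

/-- The multiplicity of conjugate characters. -/
theorem mult_conjIrr {C : Type*} [Group C] [Fintype C] [Finite G] (j : C →* G) (χ : IrrCharacter G)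
    (γ : IrrCharacter C) :
    mult j (CfsgLib.BrauerPerm.conjIrr χ) (CfsgLib.BrauerPerm.conjIrr γ) = mult j χ γ := by
  refine CfsgLib.CharCorr.mult_eq_of_classInner_eq _ _ _ ?_
  have h := congrArg conj (mult_spec j χ γ)
  rw [Complex.conj_natCast] at h
  rw [← h]
  simp [classInner, map_sum]

variable [Finite G] (N : Subgroup G) [hN : N.Normal] [Fintype N]

/-- A real character has a real constituent on a normal subgroup of odd index. -/
theorem exists_real_constituent (hodd : Odd N.index) (χ : IrrCharacter G)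
    (hχ : ∀ g, ((χ : G → ℂ) g).im = 0) :
    ∃ φ : IrrCharacter N, (∀ n, ((φ : N → ℂ) n).im = 0) ∧ mult N.subtype χ φ ≠ 0 := by
  classical
  haveI := Fintype.ofFinite G
  obtain ⟨φ₀, hφ₀⟩ := CfsgLib.CharCorrQ.exists_mult_ne_zero N.subtype χ
  let Ω := {η : IrrCharacter N // mult N.subtype χ η ≠ 0}
  have hcard : Odd (Nat.card Ω) := by
    rw [CfsgLib.CharCorrQ.card_inertia_orbit N χ φ₀ hφ₀]
    exact hodd.of_dvd_nat (Subgroup.index_dvd_of_le
      (CfsgLib.Clifford.le_inertia hN (irr_isClassFunction φ₀)))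
  have hfix : CfsgLib.BrauerPerm.conjIrr χ = χ := (CfsgLib.BrauerPerm.conjIrr_eq_self_iff χ).2 hχ
  have hmem : ∀ η : Ω, mult N.subtype χ (CfsgLib.BrauerPerm.conjIrr η.1) ≠ 0 := fun η => by
    have h := mult_conjIrr N.subtype χ η.1
    rw [hfix] at h
    rw [h]
    exact η.2
  have hinv : Function.Involutive fun η : Ω => (⟨CfsgLib.BrauerPerm.conjIrr η.1, hmem η⟩ : Ω) :=
    fun η => Subtype.ext (Subtype.ext (funext fun n => by simp))
  haveI : Finite Ω := Subtype.finite
  haveI := Fintype.ofFinite Ω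
  haveI : Fact (Nat.Prime 2) := ⟨Nat.prime_two⟩
  obtain ⟨η, hη⟩ := Equiv.Perm.exists_fixed_point_of_prime (p := 2) (n := 1)
    (σ := hinv.toPerm _)
    (fun h2 => Nat.not_even_iff_odd.2 hcard (Nat.card_eq_fintype_card (α := Ω) ▸ (even_iff_two_dvd.2 h2)))
    (Equiv.ext fun η => by
      rw [pow_one, sq]
      exact hinv η)
  exact ⟨η.1, (CfsgLib.BrauerPerm.conjIrr_eq_self_iff η.1).1 (congrArg Subtype.val hη), η.2⟩

/-- A real character over a real character of a normal subgroup of odd index has multiplicity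
one, so its degree is the orbit size times the degree. -/
theorem degree_of_real_over (hodd : Odd N.index) (φ : IrrCharacter N)
    (hφ : ∀ n, ((φ : N → ℂ) n).im = 0) (χ : IrrCharacter G) (hχ : ∀ g, ((χ : G → ℂ) g).im = 0)
    (hm : mult N.subtype χ φ ≠ 0) :
    charDegree (χ : G → ℂ) =
      (CfsgLib.Clifford.inertia hN (φ : N → ℂ)).index * charDegree (φ : N → ℂ) := by
  classical
  haveI := Fintype.ofFinite G
  have hm' : CfsgLib.NormalRes.mult N (χ : G → ℂ) φ ≠ 0 := by
    rw [mult_eq_classInner]; exact_mod_cast hm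
  have h := CfsgLib.RealOverNormal.sum_mult_fsInd N hodd φ
  rw [Finset.sum_eq_single χ (fun ψ _ hne => ?_) (fun hh => absurd (Finset.mem_univ _) hh)] at h
  swap
  · by_cases hψ : ∀ g, ((ψ : G → ℂ) g).im = 0
    · by_cases hmψ : CfsgLib.NormalRes.mult N (ψ : G → ℂ) φ = 0
      · rw [hmψ, zero_mul]
      · exact absurd (CfsgLib.RealOverNormal.eq_of_real_over N hodd φ hφ ψ χ hψ hmψ hχ hm') hne
    · rw [(CfsgLib.FrobSchur.fsInd_eq_zero_iff ψ.2).mpr hψ, mul_zero]
  rw [mult_eq_classInner] at h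
  have hone : mult N.subtype χ φ = 1 := by
    have hsq : (mult N.subtype χ φ : ℂ) * (mult N.subtype χ φ : ℂ) = 1 := by
      rcases CfsgLib.FrobSchur.fsInd_cases χ.2 with ⟨-, h1 | h1⟩ | ⟨h1, -⟩
      · rcases CfsgLib.FrobSchur.fsInd_cases φ.2 with ⟨-, h2 | h2⟩ | ⟨h2, -⟩
        · rw [h1, h2, mul_one] at h; rw [h, mul_one]
        · rw [h1, h2, mul_one] at h; rw [h]; norm_num
        · exact absurd hφ h2
      · rcases CfsgLib.FrobSchur.fsInd_cases φ.2 with ⟨-, h2 | h2⟩ | ⟨h2, -⟩
        · rw [h1, h2] at h; linear_combination (1 - (mult N.subtype χ φ : ℂ)) * h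
        · rw [h1, h2] at h; linear_combination (-(mult N.subtype χ φ : ℂ) - 1) * h
        · exact absurd hφ h2
      · exact absurd hχ h1
    exact Nat.eq_one_of_mul_eq_one_left (by exact_mod_cast hsq)
  have hs : classInner (fun n : N => (χ : G → ℂ) n) (φ : N → ℂ) = (mult N.subtype χ φ : ℂ) :=
    mult_spec N.subtype χ φ
  have h3 := CfsgLib.Clifford.clifford_degree hN χ.2 φ.2 (by rw [hs]; exact_mod_cast hm)
  rw [hs, irr_one_eq_charDegree, irr_one_eq_charDegree, hone, Nat.cast_one, one_mul] at h3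
  exact_mod_cast h3

/-- Over a real character lies a unique real character. -/
theorem exists_real_over' (hodd : Odd N.index) (φ : IrrCharacter N)
    (hφ : ∀ n, ((φ : N → ℂ) n).im = 0) :
    ∃ χ : IrrCharacter G, (∀ g, ((χ : G → ℂ) g).im = 0) ∧ mult N.subtype χ φ ≠ 0 := by
  obtain ⟨χ, hr, hm⟩ := CfsgLib.RealOverNormal.exists_real_over N hodd φ hφ
  rw [mult_eq_classInner] at hm
  exact ⟨χ, hr, fun h => hm (by rw [h, Nat.cast_zero])⟩

theorem eq_of_real_over' (hodd : Odd N.index) (φ : IrrCharacter N)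
    (hφ : ∀ n, ((φ : N → ℂ) n).im = 0) (χ χ' : IrrCharacter G)
    (hr : ∀ g, ((χ : G → ℂ) g).im = 0) (hm : mult N.subtype χ φ ≠ 0)
    (hr' : ∀ g, ((χ' : G → ℂ) g).im = 0) (hm' : mult N.subtype χ' φ ≠ 0) : χ = χ' :=
  CfsgLib.RealOverNormal.eq_of_real_over N hodd φ hφ χ χ' hr
    (by rw [mult_eq_classInner]; exact_mod_cast hm) hr'
    (by rw [mult_eq_classInner]; exact_mod_cast hm')

/-- Constituents of conjugates. -/
theorem mult_conjugate (χ : IrrCharacter G) (φ ψ : IrrCharacter N) (g : G)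
    (h : (ψ : N → ℂ) = CfsgLib.Clifford.conjChar hN (φ : N → ℂ) g) :
    mult N.subtype χ ψ = mult N.subtype χ φ := by
  haveI := Fintype.ofFinite G
  refine CfsgLib.CharCorr.mult_eq_of_classInner_eq _ _ _ ?_
  rw [show ((χ : G → ℂ) ∘ N.subtype) = fun n : N => (χ : G → ℂ) n from rfl, h,
    CfsgLib.Clifford.classInner_res_conjChar hN (irr_isClassFunction χ)]
  exact mult_spec N.subtype χ φ

theorem exists_conjugate (χ : IrrCharacter G) (φ ψ : IrrCharacter N)
    (hφ : mult N.subtype χ φ ≠ 0) (hψ : mult N.subtype χ ψ ≠ 0) :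
    ∃ g : G, (ψ : N → ℂ) = CfsgLib.Clifford.conjChar hN (φ : N → ℂ) g := by
  haveI := Fintype.ofFinite G
  refine CfsgLib.Clifford.exists_conj_of_constituent hN χ.2 φ.2 ψ.2 ?_ ?_
  · rw [show classInner (fun n : N => (χ : G → ℂ) n) (φ : N → ℂ) = (mult N.subtype χ φ : ℂ) from
      mult_spec N.subtype χ φ]
    exact_mod_cast hφ
  · rw [show classInner (fun n : N => (χ : G → ℂ) n) (ψ : N → ℂ) = (mult N.subtype χ ψ : ℂ) from
      mult_spec N.subtype χ ψ]
    exact_mod_cast hψ

end CfsgLib.RealDegrees
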